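import Groth.Agent.L25.LargestMult.Decomp
import Groth.Agent.L25.HopfSub
import Groth.Agent.L25.MultType.Subgroup
import Groth.Agent.L25.MultType.KillTrivial
import Groth.Agent.L08.BaseChange
import Groth.Prelude.Def_SGA3b
import Mathlib.RingTheory.Bialgebra.Quotient
import Mathlib.RingTheory.HopfAlgebra.Quotient
import Mathlib.RingTheory.HopfAlgebra.TensorProduct
import Mathlib.FieldTheory.IsAlgClosed.AlgebraicClosure

/-!
# The largest subgroup of multiplicative type of a commutative affine group
-/

set_option autoImplicit false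
universe u
set_option linter.style.haveILetI false

open TensorProduct

noncomputable section

namespace Groth.L25.LargestMult

open Groth.L08

variable {k : Type u} [Field k] {A : Type u} [CommRing A] [HopfAlgebra k A]
  {K : Type u} [Field K] [Algebra k K]

/-- coefficient of an element of a base change -/
def co (c : K →ₗ[k] k) : K ⊗[k] A →ₗ[k] A := (TensorProduct.lid k A).toLinearMap ∘ₗ c.rTensor A

@[simp] theorem co_tmul (c : K →ₗ[k] k) (s : K) (a : A) : co c (s ⊗ₜ[k] a) = c s • a := by simp [co]

theorem mem_baseChange_iff {W : Submodule k A} {x : K ⊗[k] A} :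
    x ∈ W.baseChange K ↔ ∀ c : K →ₗ[k] k, co c x ∈ W := by
  constructor
  · intro hx c
    rw [Submodule.baseChange_eq_span] at hx
    induction hx using Submodule.span_induction generalizing c with
    | zero => simp
    | add a b _ _ ha hb => rw [map_add]; exact add_mem (ha c) (hb c)
    | mem x hx =>
      obtain ⟨w, hw, rfl⟩ := hx
      simpa using W.smul_mem _ hw
    | smul r a _ ha =>
      have h : ∀ y : K ⊗[k] A, co c (r • y) = co (c ∘ₗ LinearMap.mulLeft k r) y := by
        intro y
        induction y with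
        | zero => simp
        | add p q hp hq => simp only [smul_add, map_add, hp, hq]
        | tmul s a => simp [TensorProduct.smul_tmul']
      rw [h]
      exact ha _
  · intro h
    obtain ⟨y, rfl⟩ := (mem_range_lTensor_subtype_iff W x).2 h
    induction y with
    | zero => simp
    | add p q hp hq =>
      rw [map_add]
      exact add_mem (hp fun c => (mem_range_lTensor_subtype_iff W _).1 ⟨p, rfl⟩ c)
        (hq fun c => (mem_range_lTensor_subtype_iff W _).1 ⟨q, rfl⟩ c)
    | tmul s w => exact Submodule.tmul_mem_baseChange_of_mem _ w.2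

theorem fAct_baseChange (ψ : A →ₗ[k] k) (x : K ⊗[k] A) (c : K →ₗ[k] k) :
    co c (fAct (K ⊗[k] A) (LinearMap.liftBaseChange K (Algebra.linearMap k K ∘ₗ ψ)) x) =
      fAct A ψ (co c x) := by
  induction x with
  | zero => simp
  | add a b ha hb => simp only [map_add, ha, hb]
  | tmul s a =>
    let Ψ := LinearMap.liftBaseChange K (Algebra.linearMap k K ∘ₗ ψ)
    have h1 : fAct (K ⊗[k] A) Ψ (s ⊗ₜ[k] a) = s ⊗ₜ[k] fAct A ψ a := by
      have h2 : s ⊗ₜ[k] a = s • ((1 : K) ⊗ₜ[k] a) := by rw [smul_tmul', smul_eq_mul, mul_one]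
      rw [h2, map_smul, fAct_apply]
      change s • TensorProduct.rid K (K ⊗[k] A) (Ψ.lTensor (K ⊗[k] A)
        (AlgebraTensorModule.tensorTensorTensorComm k K k K K K A A
          (CoalgebraStruct.comul (R := K) (A := K) 1 ⊗ₜ[k] Coalgebra.comul (R := k) a))) = _
      rw [CoactBr.comul_self_apply, fAct_apply]
      change _ = s ⊗ₜ[k] TensorProduct.rid k A (ψ.lTensor A (Coalgebra.comul (R := k) a))
      induction Coalgebra.comul (R := k) a with
      | zero => simp
      | add p q hp hq => simp only [tmul_add, map_add, smul_add, hp, hq]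
      | tmul p q =>
        simp [Ψ, Algebra.smul_def, mul_comm]
        rw [mul_comm s, ← Algebra.smul_def, mul_comm p, ← Algebra.smul_def, TensorProduct.smul_tmul]
    rw [h1, co_tmul, co_tmul, map_smul]

theorem N_baseChange_le : ∀ n, N K (K ⊗[k] A) n ≤ (N k A n).baseChange K
  | 0 => by simp [N]
  | n + 1 => fun x hx => mem_baseChange_iff.2 fun c => mem_N_succ.2 fun ψ => by
      have h := mem_baseChange_iff.1
        (N_baseChange_le n (mem_N_succ.1 hx (LinearMap.liftBaseChange K (Algebra.linearMap k K ∘ₗ ψ)))) c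
      rw [map_sub, fAct_baseChange, Algebra.TensorProduct.one_def, LinearMap.liftBaseChange_tmul,
        one_smul, LinearMap.comp_apply, Algebra.linearMap_apply, algebraMap_smul, map_smul] at h
      exact h

theorem counit_one_mem {n : ℕ} {a : A} (ha : a ∈ N k A n) : a ∈ B k A := mem_B.2 ⟨n, ha⟩

section Main

variable [Coalgebra.IsCocomm k A]

variable (k A) in
/-- the kernel of the projection to the quotient by the largest subgroup of multiplicative type -/
def J : Ideal A :=
  letI := HopfSub.hopfAlgebra (isHopfSubalgebra_B (k := k) (A := A))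
  Ideal.map ((HopfSub.inclBialg (isHopfSubalgebra_B (k := k) (A := A))) : B k A →+* A)
    (RingHom.ker (Bialgebra.counitAlgHom k (B k A)))

theorem isHopfIdeal_J : (J k A).IsHopfIdeal k :=
  letI := HopfSub.hopfAlgebra (isHopfSubalgebra_B (k := k) (A := A))
  MultType.isHopfIdeal_map_ker (HopfSub.inclBialg (isHopfSubalgebra_B (k := k) (A := A))) _ rfl

theorem sub_counit_mem_J {a : A} (ha : a ∈ B k A) :
    a - algebraMap k A (Coalgebra.counit (R := k) a) ∈ J k A := by
  letI := HopfSub.hopfAlgebra (isHopfSubalgebra_B (k := k) (A := A))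
  let b : B k A := ⟨a, ha⟩ - algebraMap k (B k A) (Coalgebra.counit (R := k) a)
  have hb : b ∈ RingHom.ker (Bialgebra.counitAlgHom k (B k A)) := by
    rw [RingHom.mem_ker, map_sub, AlgHom.commutes]
    exact sub_self _
  exact Ideal.mem_map_of_mem _ hb

theorem isMultTypeConst_quotient : letI := isHopfIdeal_J (k := k) (A := A)
    SGA3b.IsMultTypeConst k (A ⧸ J k A) := by
  letI := isHopfIdeal_J (k := k) (A := A)
  let L := AlgebraicClosure k
  refine ⟨L, inferInstance, inferInstance, inferInstance, ?_⟩
  let π : L ⊗[k] A →ₐc[L] L ⊗[k] (A ⧸ J k A) :=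
    Bialgebra.TensorProduct.map (BialgHom.id L L) (Bialgebra.Quotient.mkBialgHom (J k A))
  let f : MonoidAlgebra L (GroupLike L (L ⊗[k] A)) →ₐc[L] L ⊗[k] (A ⧸ J k A) :=
    π.comp MonoidAlgebra.liftGroupLikeBialgHom
  refine MultType.isDiag_of_surjective f (fun y => ?_) linearIndep_groupLikeVal
  have hπ : Function.Surjective π := fun y => by
    induction y with
    | zero => exact ⟨0, map_zero _⟩
    | add p q hp hq =>
      obtain ⟨a, rfl⟩ := hp
      obtain ⟨b, rfl⟩ := hq
      exact ⟨a + b, map_add _ _ _⟩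
    | tmul s a =>
      obtain ⟨a, rfl⟩ := Ideal.Quotient.mk_surjective a
      exact ⟨s ⊗ₜ[k] a, rfl⟩
  obtain ⟨x, rfl⟩ := hπ y
  have hmem : x ∈ M L (L ⊗[k] A) := eq_top_M (k := L) (A := L ⊗[k] A) ▸ Submodule.mem_top
  induction hmem using Submodule.span_induction with
  | zero => exact ⟨0, by rw [map_zero, map_zero]⟩
  | add a b _ _ ha hb =>
    obtain ⟨p, hp⟩ := ha
    obtain ⟨q, hq⟩ := hb
    exact ⟨p + q, by rw [map_add, map_add, hp, hq]⟩
  | smul r a _ ha =>
    obtain ⟨p, hp⟩ := ha
    exact ⟨r • p, by rw [map_smul, map_smul, hp]⟩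
  | mem z hz =>
    obtain ⟨g, n, v, hv, rfl⟩ := hz
    obtain ⟨r, hr⟩ : ∃ r : L, π v = r • 1 := by
      have h := N_baseChange_le (K := L) n hv
      clear hv
      rw [Submodule.baseChange_eq_span] at h
      induction h using Submodule.span_induction with
      | zero => exact ⟨0, by simp⟩
      | add a b _ _ ha hb =>
        obtain ⟨p, hp⟩ := ha
        obtain ⟨q, hq⟩ := hb
        exact ⟨p + q, by rw [map_add, hp, hq, add_smul]⟩
      | smul r a _ ha =>
        obtain ⟨p, hp⟩ := ha
        exact ⟨r * p, by rw [map_smul, hp, smul_smul]⟩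
      | mem z hz =>
        obtain ⟨w, hw, rfl⟩ := hz
        refine ⟨algebraMap k L (Coalgebra.counit (R := k) w), ?_⟩
        change (1 : L) ⊗ₜ[k] Ideal.Quotient.mk (J k A) w = _
        have e : Ideal.Quotient.mk (J k A) w = algebraMap k (A ⧸ J k A) (Coalgebra.counit (R := k) w) := by
          rw [IsScalarTower.algebraMap_apply k A (A ⧸ J k A), Ideal.Quotient.algebraMap_eq, Ideal.Quotient.eq]
          exact sub_counit_mem_J (mem_B.2 ⟨n, hw⟩)
        rw [e, Algebra.algebraMap_eq_smul_one, TensorProduct.tmul_smul, algebraMap_smul,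
          Algebra.TensorProduct.one_def]
    refine ⟨MonoidAlgebra.single g r, ?_⟩
    change π (MonoidAlgebra.liftGroupLikeBialgHom (MonoidAlgebra.single g r)) = π (g.val * v)
    rw [map_mul π g.val, hr, mul_smul_comm, mul_one, ← map_smul]
    congr 1
    simp [MonoidAlgebra.liftGroupLikeBialgHom]

omit [Coalgebra.IsCocomm k A] in
/-- primitive elements of a group algebra vanish -/
theorem primitive_eq_zero {R G : Type u} [CommRing R] [Monoid G] {p : MonoidAlgebra R G}
    (hp : Coalgebra.comul (R := R) p = p ⊗ₜ[R] 1 + 1 ⊗ₜ[R] p) : p = 0 := by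
  classical
  refine MonoidAlgebra.ext (Finsupp.ext fun m => ?_)
  let L : MonoidAlgebra R G →ₗ[R] R := Finsupp.lapply m ∘ₗ (MonoidAlgebra.coeffLinearEquiv R).toLinearMap
  have hL : ∀ x : MonoidAlgebra R G,
      LinearMap.mul' R R (TensorProduct.map L L (Coalgebra.comul (R := R) x)) = L x := by
    intro x
    induction x using MonoidAlgebra.induction_linear with
    | zero => simp
    | add a b ha hb => simp only [map_add, ha, hb]
    | single a r =>
      simp [L, Finsupp.single_apply]
      intro h1 h2
      exact absurd h2 h1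
  have h := hL p
  rw [hp] at h
  simp [L, MonoidAlgebra.one_def, Finsupp.single_apply] at h ⊢
  split_ifs at h with h1
  · simp at h
    exact h
  · simpa using h.symm

theorem J_le (I : Ideal A) [I.IsHopfIdeal k] (hI : SGA3b.IsMultTypeConst k (A ⧸ I)) : J k A ≤ I := by
  obtain ⟨R', _, _, hff, G, _, ⟨e⟩⟩ := hI
  haveI := hff
  let q : A →ₐc[k] A ⧸ I := Bialgebra.Quotient.mkBialgHom I
  have key : ∀ n, ∀ a ∈ N k A n, q a = algebraMap k (A ⧸ I) (Coalgebra.counit (R := k) a) := by
    intro n
    induction n with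
    | zero => intro a ha; simp only [N, Submodule.mem_bot] at ha; simp [ha]
    | succ n ih =>
      intro a ha
      obtain ⟨z, hz⟩ : ∃ z : A ⧸ I, TensorProduct.map (q : A →ₗ[k] A ⧸ I) (q : A →ₗ[k] A ⧸ I)
          (Coalgebra.comul (R := k) a - a ⊗ₜ[k] 1) = 1 ⊗ₜ[k] z := by
        obtain ⟨y, hy⟩ := mem_N_succ_iff.1 ha
        rw [← hy]
        clear hy
        induction y with
        | zero => exact ⟨0, by simp⟩
        | add u v hu hv =>
          obtain ⟨z, hz⟩ := hu
          obtain ⟨z', hz'⟩ := hv
          exact ⟨z + z', by rw [map_add, map_add, hz, hz', tmul_add]⟩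
        | tmul w x =>
          refine ⟨Coalgebra.counit (R := k) (w : A) • q x, ?_⟩
          simp only [LinearMap.rTensor_tmul, Submodule.coe_subtype, TensorProduct.map_tmul]
          change q (w : A) ⊗ₜ[k] q x = _
          rw [ih w w.2, Algebra.algebraMap_eq_smul_one, TensorProduct.smul_tmul]
      have hc : Coalgebra.comul (R := k) (q a) = q a ⊗ₜ[k] 1 + 1 ⊗ₜ[k] z := by
        rw [← CoalgHomClass.map_comp_comul_apply, ← sub_eq_iff_eq_add', ← hz, map_sub, TensorProduct.map_tmul]
        change _ - q a ⊗ₜ[k] q 1 = _ - q a ⊗ₜ[k] q 1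
        rfl
      have hzε : q a = algebraMap k (A ⧸ I) (Coalgebra.counit (R := k) a) + z := by
        have h := congrArg (fun x => TensorProduct.lid k (A ⧸ I) ((Coalgebra.counit (R := k) (A := A ⧸ I)).rTensor (A ⧸ I) x)) hc
        simp only [Coalgebra.rTensor_counit_comul, map_add, LinearMap.rTensor_tmul, TensorProduct.lid_tmul,
          Bialgebra.counit_one, one_smul] at h
        rw [CoalgHomClass.counit_comp_apply, ← Algebra.algebraMap_eq_smul_one] at h
        simpa using h
      suffices z = 0 by rw [hzε, this, add_zero]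
      have hzp : Coalgebra.comul (R := k) z = z ⊗ₜ[k] 1 + 1 ⊗ₜ[k] z := by
        have hzq : z = q a - algebraMap k (A ⧸ I) (Coalgebra.counit (R := k) a) := by rw [hzε]; abel
        conv_lhs => rw [hzq, map_sub, hc, Bialgebra.comul_algebraMap, hzε, add_tmul]
        rw [Algebra.TensorProduct.algebraMap_apply]
        abel
      let p : R' ⊗[k] (A ⧸ I) := (1 : R') ⊗ₜ[k] z
      have hp : Coalgebra.comul (R := R') p = p ⊗ₜ[R'] 1 + 1 ⊗ₜ[R'] p := by
        change AlgebraTensorModule.tensorTensorTensorComm k R' k R' R' R' (A ⧸ I) (A ⧸ I)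
          (CoalgebraStruct.comul (R := R') (A := R') 1 ⊗ₜ[k] Coalgebra.comul (R := k) z) = _
        rw [CoactBr.comul_self_apply, hzp, tmul_add, map_add]
        rfl
      have h0 : e p = 0 := primitive_eq_zero (by
        rw [← CoalgHomClass.map_comp_comul_apply, hp, map_add, TensorProduct.map_tmul, TensorProduct.map_tmul]
        change e p ⊗ₜ[R'] e 1 + e 1 ⊗ₜ[R'] e p = _
        rw [map_one])
      have h1 : p = 0 := e.injective (h0.trans (map_zero e).symm)
      exact (Algebra.TensorProduct.includeRight_injective (A := R')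
        (FaithfulSMul.algebraMap_injective k R')) (h1.trans (tmul_zero _ _).symm)
  unfold J
  rw [Ideal.map_le_iff_le_comap]
  intro b hb
  obtain ⟨n, hn⟩ := mem_B.1 b.2
  rw [Ideal.mem_comap, ← Ideal.Quotient.eq_zero_iff_mem]
  have h0 : Coalgebra.counit (R := k) (b : A) = 0 := hb
  have := key n _ hn
  rw [h0, map_zero] at this
  exact this

theorem isUnipotent_B :
    letI := HopfSub.hopfAlgebra (isHopfSubalgebra_B (k := k) (A := A))
    HopfRep.IsUnipotent k (B k A) := by
  letI := HopfSub.hopfAlgebra (isHopfSubalgebra_B (k := k) (A := A))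
  refine isUnipotent_of_hasFlag fun b => ?_
  obtain ⟨n, hn⟩ := mem_B.1 b.2
  refine ⟨n, fun i => (N k A i).comap (B k A).val.toLinearMap, ?_, hn, fun i => ⟨1, rfl, fun v hv φ => ?_⟩⟩
  · ext x
    simp [N, Submodule.mem_comap]
  · obtain ⟨ψ, rfl⟩ := exists_extend_inj
      (f := (B k A).val.toLinearMap) (LinearMap.ker_eq_bot.2 Subtype.val_injective) φ
    have h : ((fAct (B k A) (ψ ∘ₗ (B k A).val.toLinearMap) v : B k A) : A) = fAct A ψ (v : A) := by
      change _ = TensorProduct.rid k A (ψ.lTensor A (Coalgebra.comul (R := k) (v : A)))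
      rw [← HopfSub.j_comulB (isHopfSubalgebra_B (k := k) (A := A)) v, fAct_apply]
      change ((TensorProduct.rid k (B k A) (LinearMap.lTensor _ _
        (HopfSub.comulB (isHopfSubalgebra_B (k := k) (A := A)) v)) : B k A) : A) = _
      induction HopfSub.comulB (isHopfSubalgebra_B (k := k) (A := A)) v with
      | zero => simp
      | add p q hp hq => simp only [map_add, Subalgebra.coe_add, hp, hq]
      | tmul p q => simp
    have h2 := mem_N_succ.1 hv ψ
    rw [Submodule.mem_comap]
    change ((fAct (B k A) _ v - _ • v : B k A) : A) ∈ N k A i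
    rw [Subalgebra.coe_sub, h]
    exact h2

end Main

end Groth.L25.LargestMult
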