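import Groth.Agent.L25.LargestMult.Main
import Groth.Agent.L25.Bridge.Lift
import Groth.Agent.L25.Bridge.TorsionLift
import Groth.Agent.L25.MonoNhd.HomGa
import Groth.Agent.L25.NilAction
import Groth.Agent.L25.Locus.Normalizer

/-!
# The largest subgroup of multiplicative type of a commutative affine group, functorially
-/

set_option autoImplicit false
universe u

open CategoryTheory CategoryTheory.Limits MonoidalCategory CartesianMonoidalCategory
open AlgebraicGeometry WithConv
open scoped MonObj TensorProduct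

set_option backward.isDefEq.respectTransparency.types false
set_option linter.style.haveILetI false

noncomputable section

namespace Groth.L25.LargestMult

open Groth.L25.GaPts

variable {k : Type u} [Field k] {A : Type u} [CommRing A] [HopfAlgebra k A]

/-- convolution at an element of the unipotent filtration -/
theorem conv_apply {C : Type u} [CommRing C] [Algebra k C] (φ ψ : A →ₐ[k] C) {n : ℕ}
    (hφ : ∀ w ∈ N k A n, φ w = algebraMap k C (Coalgebra.counit (R := k) w)) {b : A} (hb : b ∈ N k A (n + 1)) :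
    (toConv φ * toConv ψ).ofConv b = φ b + ψ b - algebraMap k C (Coalgebra.counit (R := k) b) := by
  obtain ⟨y, hy⟩ := mem_N_succ_iff.1 hb
  have hΔ : Coalgebra.comul (R := k) b = b ⊗ₜ[k] 1 + (N k A n).subtype.rTensor A y := by
    rw [hy]; abel
  let Z := TensorProduct.lid k A
    ((Coalgebra.counit (R := k) (A := A)).rTensor A ((N k A n).subtype.rTensor A y))
  have hZ : b = algebraMap k A (Coalgebra.counit (R := k) b) + Z := by
    have h := congrArg (fun x => TensorProduct.lid k A ((Coalgebra.counit (R := k) (A := A)).rTensor A x)) hΔ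
    simp only [Coalgebra.rTensor_counit_comul, map_add, LinearMap.rTensor_tmul, TensorProduct.lid_tmul,
      one_smul] at h
    rw [← Algebra.algebraMap_eq_smul_one] at h
    exact h
  have hy' : Algebra.TensorProduct.lift φ ψ (fun _ _ => Commute.all _ _) ((N k A n).subtype.rTensor A y) = ψ Z := by
    clear hy hΔ hZ
    simp only [Z]
    clear Z
    induction y with
    | zero => simp
    | add p q hp hq => simp only [map_add, hp, hq]
    | tmul w x =>
      simp only [LinearMap.rTensor_tmul, Submodule.coe_subtype, Algebra.TensorProduct.lift_tmul,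
        TensorProduct.lid_tmul, map_smul]
      rw [hφ _ w.2, Algebra.smul_def]
  have hconv : (toConv φ * toConv ψ).ofConv b =
      Algebra.TensorProduct.lift φ ψ (fun _ _ => Commute.all _ _) (Coalgebra.comul (R := k) b) := by
    simp [AlgHom.convMul_apply]
  have h2 := congrArg ψ hZ
  rw [map_add, AlgHom.commutes] at h2
  rw [hconv, hΔ, map_add, Algebra.TensorProduct.lift_tmul, map_one, mul_one, hy', h2]
  abel

variable (k A) in
/-- a commutative group has a cocommutative Hopf algebra -/
theorem isCocomm_of_comm (h : ∀ (X : Over (Spec (CommRingCat.of k))) (a b : X ⟶ Bridge.P k A), a * b = b * a) :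
    Coalgebra.IsCocomm k A := by
  have e := Spec.mapMulEquiv.injective (show
      Spec.mapMulEquiv (toConv (Algebra.TensorProduct.includeLeft : A →ₐ[k] A ⊗[k] A) *
          toConv (Algebra.TensorProduct.includeRight : A →ₐ[k] A ⊗[k] A)) =
        Spec.mapMulEquiv (toConv (Algebra.TensorProduct.includeRight : A →ₐ[k] A ⊗[k] A) *
          toConv (Algebra.TensorProduct.includeLeft : A →ₐ[k] A ⊗[k] A)) by
    rw [map_mul, map_mul, h])
  refine ⟨?_⟩
  apply LinearMap.ext
  intro a
  have h1 := congrArg (fun m => m.ofConv a) e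
  simp only [AlgHom.convMul_apply] at h1
  have hl : ∀ y : A ⊗[k] A, Algebra.TensorProduct.lift
      (Algebra.TensorProduct.includeLeft : A →ₐ[k] A ⊗[k] A) Algebra.TensorProduct.includeRight
      (fun _ _ => Commute.all _ _) y = y := by
    intro y
    induction y with
    | zero => simp
    | add p q hp hq => simp only [map_add, hp, hq]
    | tmul p q => simp
  have hr : ∀ y : A ⊗[k] A, Algebra.TensorProduct.lift
      (Algebra.TensorProduct.includeRight : A →ₐ[k] A ⊗[k] A) Algebra.TensorProduct.includeLeft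
      (fun _ _ => Commute.all _ _) y = TensorProduct.comm k A A y := by
    intro y
    induction y with
    | zero => simp
    | add p q hp hq => simp only [map_add, hp, hq]
    | tmul p q => simp
  rw [LinearMap.comp_apply, LinearEquiv.coe_coe]
  exact (hr _).symm.trans (h1.symm.trans (hl _))

variable (k A) in
/-- a Hopf algebra of multiplicative type with constant type gives a group of multiplicative type -/
theorem isMultTypeFT_of_const [Algebra.FiniteType k A] (hA : SGA3b.IsMultTypeConst k A) :
    SGA3x.IsMultTypeFT (Bridge.P k A) := by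
  obtain ⟨R', _, _, hff, N, _, ⟨e⟩⟩ := hA
  haveI := hff
  refine Bridge.locally_of_family (R := k) A («ι» := PUnit.{u + 1}) (T := fun _ => R') (fun _ => inferInstance)
    (fun p => ⟨PUnit.unit, PrimeSpectrum.comap_surjective_of_faithfullyFlat p⟩) fun _ => ?_
  exact Bridge.exists_fg_of_split (R := k) (A := A) e

/-- the value of an element at a point of the spectrum -/
def val {Y : Scheme.{u}} (z : Y ⟶ Spec (CommRingCat.of A)) : A →+* Γ(Y, ⊤) :=
  ((Scheme.ΓSpecIso (CommRingCat.of A)).inv ≫ z.appTop).hom

theorem val_comp {Y Y' : Scheme.{u}} (g : Y' ⟶ Y) (z : Y ⟶ Spec (CommRingCat.of A)) (a : A) :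
    val (g ≫ z) a = g.appTop (val z a) := by
  simp [val]

theorem val_specMap {C : Type u} [CommRing C] (φ : A →+* C) (a : A) :
    val (Spec.map (CommRingCat.ofHom φ)) a = (Scheme.ΓSpecIso (CommRingCat.of C)).inv (φ a) :=
  (congrArg (fun ψ => (ConcreteCategory.hom ψ) a)
    (Scheme.ΓSpecIso_inv_naturality (CommRingCat.ofHom φ))).symm

theorem eq_toSpecΓ_comp {Y : Scheme.{u}} (z : Y ⟶ Spec (CommRingCat.of A)) :
    z = Y.toSpecΓ ≫ Spec.map (CommRingCat.ofHom (val z)) := by
  have h := Scheme.toSpecΓ_naturality z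
  rw [← SpecMap_ΓSpecIso_hom] at h
  rw [show CommRingCat.ofHom (val z) = (Scheme.ΓSpecIso (CommRingCat.of A)).inv ≫ z.appTop from rfl,
    Spec.map_comp, ← Category.assoc, ← h, Category.assoc, ← Spec.map_comp, Iso.inv_hom_id, Spec.map_id,
    Category.comp_id]

section

variable {S' : Scheme.{u}} {f : S' ⟶ Spec (CommRingCat.of k)} {Z : Over (Spec (CommRingCat.of k))} [GrpObj Z]
  (e : Z ⟶ Bridge.P k A) [IsMonHom e] {H : Over S'} [GrpObj H] (v : H ⟶ Red.bc f Z) [IsMonHom v]

/-- the total point -/
abbrev tot : H.left ⟶ Spec (CommRingCat.of A) := (NilAction.toBase f v ≫ e).left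

/-- on points of groups without homomorphisms to the additive group the unipotent component is constant -/
theorem val_eq_counit_of (hGa : ∀ (u : H ⟶ Red.Ga S') [IsMonHom u], u = 1) :
    ∀ (n : ℕ), ∀ b ∈ N k A n, val (tot e v) b =
      val (tot e v) (algebraMap k A (Coalgebra.counit (R := k) b)) := by
  intro n
  induction n with
  | zero => intro b hb; simp only [N, Submodule.mem_bot] at hb; simp [hb]
  | succ n ih =>
    intro b hb
    let d : Γ(H.left, ⊤) := val (tot e v) b - val (tot e v) (algebraMap k A (Coalgebra.counit (R := k) b))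
    let u : H ⟶ Red.Ga S' := ptOfElt (T := H) d
    have hu : IsMonHom u := Bridge.isMonHom_of_mul u fun X a a' => by
      apply Over.OverMorphism.ext
      refine X.left.affineCover.hom_ext _ _ fun i => ?_
      obtain ⟨C, q⟩ : ∃ C : CommRingCat.{u}, Nonempty (X.left.affineCover.X i ≅ Spec C) :=
        ⟨_, ⟨(X.left.affineCover.X i).isoSpec⟩⟩
      obtain ⟨s⟩ := q
      rw [← cancel_epi s.inv]
      let g : Spec C ⟶ X.left := s.inv ≫ X.left.affineCover.f i
      let X' : Over S' := Over.mk (g ≫ X.hom)
      let g' : X' ⟶ X := Over.homMk g rfl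
      letI : Algebra k C := (Spec.preimage ((g ≫ X.hom) ≫ f)).hom.toAlgebra
      have hc : Spec.map (CommRingCat.ofHom (algebraMap k C)) = (g ≫ X.hom) ≫ f := Spec.map_preimage _
      let j : (Spec (CommRingCat.of C)).asOver (Spec (CommRingCat.of k)) ⟶ Over.mk (X'.hom ≫ f) :=
        Over.homMk (𝟙 _) ((Category.id_comp _).trans hc.symm)
      let pt : (X' ⟶ H) → WithConv (A →ₐ[k] C) :=
        fun x => Spec.mapMulEquiv.symm (j ≫ NilAction.toBase f (x ≫ v) ≫ e)
      have hpt : ∀ x, Spec.map (CommRingCat.ofHom (pt x).ofConv.toRingHom) = x.left ≫ tot e v := by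
        intro x
        have h1 := congrArg (fun m => m.left) (Spec.mapMulEquiv.apply_symm_apply (j ≫ NilAction.toBase f (x ≫ v) ≫ e))
        refine h1.trans ?_
        show 𝟙 _ ≫ ((x.left ≫ v.left) ≫ _) ≫ _ = x.left ≫ (v.left ≫ _) ≫ _
        rw [Category.id_comp, Category.assoc, Category.assoc, Category.assoc]
      have hmul : ∀ x y, pt (x * y) = pt x * pt y := fun x y => by
        simp only [pt]
        rw [MonObj.mul_comp, NilAction.toBase_mul, MonObj.mul_comp, MonObj.comp_mul, map_mul]
      have hval : ∀ (x : X' ⟶ H) (c : A), x.left.appTop (val (tot e v) c) =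
          (Scheme.ΓSpecIso C).inv ((pt x).ofConv c) := fun x c => by
        rw [← val_comp, ← hpt]
        exact val_specMap _ c
      have hφ : ∀ (x : X' ⟶ H), ∀ w ∈ N k A n,
          (pt x).ofConv w = algebraMap k C (Coalgebra.counit (R := k) w) := fun x w hw => by
        have h1 := congrArg x.left.appTop (ih w hw)
        rw [hval, hval] at h1
        rw [(ConcreteCategory.bijective_of_isIso (Scheme.ΓSpecIso C).inv).1 h1, AlgHom.commutes]
      have key : g' ≫ ((a * a') ≫ u) = g' ≫ ((a ≫ u) * (a' ≫ u)) := by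
        rw [← Category.assoc, MonObj.comp_mul, MonObj.comp_mul, ← Category.assoc g' a u, ← Category.assoc g' a' u]
        apply gaFn_injective
        show Red.gaFn _ = Red.gaFn _
        rw [gaFn_mul, gaFn_comp, gaFn_comp, gaFn_comp, gaFn_ptOfElt]
        simp only [d, map_sub, hval, AlgHom.commutes, ← map_add]
        rw [← map_sub, ← map_sub, ← map_sub, ← map_add, hmul]
        congr 1
        rw [show (pt (g' ≫ a) * pt (g' ≫ a')) = toConv (pt (g' ≫ a)).ofConv * toConv (pt (g' ≫ a')).ofConv from rfl,
          conv_apply _ _ (hφ _) hb]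
        abel
      exact (Category.assoc _ _ _).symm.trans ((congrArg (fun m => m.left) key).trans (Category.assoc _ _ _))
    have hu1 := hGa u
    have hd : d = 0 := by
      rw [← gaFn_ptOfElt (T := H) d]
      show Red.gaFn u = 0
      rw [hu1, gaFn_one]
    exact sub_eq_zero.1 hd

/-- on points of groups of multiplicative type the unipotent component is constant -/
theorem val_eq_counit (hH : SGA3x.IsMultTypeFT H) :
    ∀ (n : ℕ), ∀ b ∈ N k A n, val (tot e v) b =
      val (tot e v) (algebraMap k A (Coalgebra.counit (R := k) b)) :=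
  val_eq_counit_of e v fun u _ => MonoNhd.hom_ga_eq_one hH u

end

variable (k) in
/-- the largest subgroup of multiplicative type of a commutative affine algebraic group receives all
homomorphisms from groups of multiplicative type -/
theorem exists_largest (Z : Over (Spec (CommRingCat.of k))) [GrpObj Z] [IsAffine Z.left] [LocallyOfFiniteType Z.hom]
    (hcomm : ∀ (X : Over (Spec (CommRingCat.of k))) (a b : X ⟶ Z), a * b = b * a) :
    ∃ (M : Over (Spec (CommRingCat.of k))) (_ : GrpObj M) (i : M ⟶ Z), IsMonHom i ∧ Mono i ∧ SGA3x.IsMultTypeFT M ∧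
      ∀ (S' : Scheme.{u}) (f : S' ⟶ Spec (CommRingCat.of k)) (H : Over S') [GrpObj H] (v : H ⟶ Red.bc f Z) [IsMonHom v],
        SGA3x.IsMultTypeFT H → ∃ w : H ⟶ Red.bc f M, w ≫ (Over.pullback f).map i = v := by
  obtain ⟨A, _, _, ⟨E⟩⟩ := Bridge.exists_hopf (R := k) Z
  have hiso : IsIso E.inv.hom.hom :=
    ⟨E.hom.hom.hom, congr($(E.inv_hom_id).hom.hom), congr($(E.hom_inv_id).hom.hom)⟩
  have : IsIso E.inv.hom.hom.left := inferInstanceAs (IsIso ((Over.forget _).map E.inv.hom.hom))
  have hft : Algebra.FiniteType k A := by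
    have h : LocallyOfFiniteType (Bridge.P k A).hom := by
      rw [← Over.w E.inv.hom.hom]
      infer_instance
    change LocallyOfFiniteType (Spec.map (CommRingCat.ofHom (algebraMap k A))) at h
    rw [HasRingHomProperty.Spec_iff (P := @LocallyOfFiniteType), CommRingCat.hom_ofHom,
      RingHom.finiteType_algebraMap] at h
    exact h
  have : Coalgebra.IsCocomm k A := isCocomm_of_comm k A fun X a b => by
    have : Mono E.inv.hom.hom := inferInstance
    have : IsMonHom E.inv.hom.hom := E.inv.hom.isMonHom_hom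
    rw [← cancel_mono E.inv.hom.hom, MonObj.mul_comp, MonObj.mul_comp, hcomm]
  letI := isHopfIdeal_J (k := k) (A := A)
  let q : A →ₐc[k] A ⧸ J k A := Bialgebra.Quotient.mkBialgHom (J k A)
  let iP : Grp.mk (Bridge.P k (A ⧸ J k A)) ⟶ Grp.mk (Bridge.P k A) :=
    (hopfSpec (CommRingCat.of k)).map (CommHopfAlgCat.ofHom q).op
  have : IsMonHom iP.hom.hom := iP.hom.isMonHom_hom
  have : IsMonHom E.inv.hom.hom := E.inv.hom.isMonHom_hom
  have : IsMonHom E.hom.hom.hom := E.hom.hom.isMonHom_hom
  let i : Bridge.P k (A ⧸ J k A) ⟶ Z := iP.hom.hom ≫ E.inv.hom.hom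
  have hiP : iP.hom.hom.left = Spec.map (CommRingCat.ofHom (Ideal.Quotient.mk (J k A))) := rfl
  have : IsClosedImmersion iP.hom.hom.left := by
    rw [hiP]; exact IsClosedImmersion.spec_of_surjective _ Ideal.Quotient.mk_surjective
  have : IsClosedImmersion i.left := by
    show IsClosedImmersion (iP.hom.hom.left ≫ E.inv.hom.hom.left)
    infer_instance
  refine ⟨Bridge.P k (A ⧸ J k A), inferInstance, i, inferInstance, Over.mono_of_mono_left i,
    isMultTypeFT_of_const k (A ⧸ J k A) isMultTypeConst_quotient, fun S' f H _ v _ hH => ?_⟩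
  let z := tot E.hom.hom.hom v
  have hJ : ∀ a ∈ J k A, val z a = 0 := by
    intro a ha
    have h : J k A ≤ RingHom.ker (val z) := by
      unfold J
      rw [Ideal.map_le_iff_le_comap]
      intro b hb
      obtain ⟨n, hn⟩ := mem_B.1 b.2
      have h0 : Coalgebra.counit (R := k) (b : A) = 0 := hb
      show val z (b : A) = 0
      rw [val_eq_counit E.hom.hom.hom v hH n _ hn, h0, map_zero, map_zero]
    exact h ha
  let φ : A ⧸ J k A →+* Γ(H.left, ⊤) := Ideal.Quotient.lift (J k A) (val z) hJ
  let w₁ : H.left ⟶ Spec (CommRingCat.of (A ⧸ J k A)) := H.left.toSpecΓ ≫ Spec.map (CommRingCat.ofHom φ)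
  have hw₁ : w₁ ≫ iP.hom.hom.left = z := by
    show (H.left.toSpecΓ ≫ Spec.map (CommRingCat.ofHom φ)) ≫
      Spec.map (CommRingCat.ofHom (Ideal.Quotient.mk (J k A))) = z
    rw [Category.assoc, ← Spec.map_comp, ← CommRingCat.ofHom_comp, Ideal.Quotient.lift_comp_mk]
    exact (eq_toSpecΓ_comp z).symm
  let w₀ : Over.mk (H.hom ≫ f) ⟶ Bridge.P k (A ⧸ J k A) := Over.homMk w₁ (by
    show w₁ ≫ (Bridge.P k (A ⧸ J k A)).hom = H.hom ≫ f
    refine (congrArg (w₁ ≫ ·) (Over.w iP.hom.hom).symm).trans ?_
    refine ((Category.assoc _ _ _).symm.trans (congrArg (· ≫ (Bridge.P k A).hom) hw₁)).trans ?_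
    exact Over.w (NilAction.toBase f v ≫ E.hom.hom.hom))
  have hw₀ : w₀ ≫ iP.hom.hom = NilAction.toBase f v ≫ E.hom.hom.hom := Over.OverMorphism.ext hw₁
  refine ⟨NilAction.ofBase f w₀, ?_⟩
  rw [NilAction.ofBase_comp, ← Category.assoc, hw₀, Category.assoc,
    show E.hom.hom.hom ≫ E.inv.hom.hom = 𝟙 Z from congr($(E.hom_inv_id).hom.hom), Category.comp_id]
  exact NilAction.ofBase_toBase f v

end Groth.L25.LargestMult
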