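import Mathlib.LinearAlgebra.TensorProduct.Basis
import Mathlib.LinearAlgebra.TensorProduct.Tower
import Mathlib.LinearAlgebra.Basis.VectorSpace

/-!
# Subspaces of a base change stable under automorphisms are defined over the ground field
-/

set_option autoImplicit false
universe u

open TensorProduct

noncomputable section

namespace Groth.L25.LargestMult

variable {k K V : Type u} [Field k] [Field K] [Algebra k K] [AddCommGroup V] [Module k V]

/-- the vectors of `V` whose image lies in `W` -/
def W₀ (W : Submodule K (K ⊗[k] V)) : Submodule k V :=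
  (W.restrictScalars k).comap (TensorProduct.mk k K V 1)

theorem mem_W₀ {W : Submodule K (K ⊗[k] V)} {v : V} : v ∈ W₀ W ↔ (1 : K) ⊗ₜ[k] v ∈ W := Iff.rfl

theorem baseChange_W₀_le (W : Submodule K (K ⊗[k] V)) : (W₀ W).baseChange K ≤ W := by
  rw [Submodule.baseChange_eq_span, Submodule.span_le]
  rintro _ ⟨v, hv, rfl⟩
  exact hv

theorem le_baseChange_W₀ (W : Submodule K (K ⊗[k] V))
    (hfix : ∀ x : K, (∀ σ : K ≃ₐ[k] K, σ x = x) → ∃ c : k, algebraMap k K c = x)
    (hstab : ∀ σ : K ≃ₐ[k] K, ∀ w ∈ W, LinearMap.rTensor V σ.toLinearMap w ∈ W) :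
    W ≤ (W₀ W).baseChange K := by
  classical
  obtain ⟨C, hC⟩ := Submodule.exists_isCompl (W₀ W)
  let P : Submodule K (K ⊗[k] V) := C.baseChange K
  have htop : (W₀ W).baseChange K ⊔ P = ⊤ := by
    refine eq_top_iff.2 fun x _ => ?_
    induction x with
    | zero => exact zero_mem _
    | add a b ha hb => exact add_mem (ha trivial) (hb trivial)
    | tmul s v =>
      obtain ⟨p, hp, q, hq, rfl⟩ := Submodule.mem_sup.1 (hC.sup_eq_top ▸ Submodule.mem_top : v ∈ W₀ W ⊔ C)
      rw [tmul_add]
      exact Submodule.add_mem_sup (Submodule.tmul_mem_baseChange_of_mem _ hp)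
        (Submodule.tmul_mem_baseChange_of_mem _ hq)
  suffices h0 : ∀ w ∈ W, w ∈ P → w = 0 by
    intro w hw
    obtain ⟨p, hp, q, hq, rfl⟩ := Submodule.mem_sup.1 (htop ▸ Submodule.mem_top : w ∈ (W₀ W).baseChange K ⊔ P)
    have hqW : q ∈ W := by simpa using sub_mem hw (baseChange_W₀_le W hp)
    rw [h0 q hqW hq, add_zero]
    exact hp
  let b := Module.Basis.ofVectorSpace k C
  let bK := b.baseChange K
  let i : K ⊗[k] C →ₗ[K] K ⊗[k] V := AlgebraTensorModule.lTensor K K C.subtype
  have hstabP : ∀ (σ : K ≃ₐ[k] K) (y : K ⊗[k] C),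
      LinearMap.rTensor V σ.toLinearMap (i y) = i (LinearMap.rTensor C σ.toLinearMap y) := by
    intro σ y
    induction y with
    | zero => simp
    | add p q hp hq => simp only [map_add, hp, hq]
    | tmul s c => simp [i]
  have hrepr : ∀ (σ : K ≃ₐ[k] K) (y : K ⊗[k] C) (j : Module.Basis.ofVectorSpaceIndex k C),
      bK.repr (LinearMap.rTensor C σ.toLinearMap y) j = σ (bK.repr y j) := by
    intro σ y j
    induction y with
    | zero => simp
    | add p q hp hq => simp only [map_add, Finsupp.add_apply, hp, hq]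
    | tmul s c => simp [bK, Module.Basis.baseChange_repr_tmul]
  suffices key : ∀ (d : ℕ) (y : K ⊗[k] C), (bK.repr y).support.card = d → i y ∈ W → y = 0 by
    intro w hw hwP
    obtain ⟨y, rfl⟩ : ∃ y, i y = w := by
      clear hw
      simp only [P, Submodule.baseChange_eq_span] at hwP
      induction hwP using Submodule.span_induction with
      | zero => exact ⟨0, map_zero _⟩
      | add p q _ _ hp hq =>
        obtain ⟨p, rfl⟩ := hp
        obtain ⟨q, rfl⟩ := hq
        exact ⟨p + q, map_add _ _ _⟩
      | smul r p _ hp =>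
        obtain ⟨p, rfl⟩ := hp
        exact ⟨r • p, map_smul _ _ _⟩
      | mem z hz =>
        obtain ⟨c, hc, rfl⟩ := hz
        exact ⟨(1 : K) ⊗ₜ[k] ⟨c, hc⟩, rfl⟩
    rw [key _ y rfl hw, map_zero]
  intro d
  induction d using Nat.strong_induction_on with
  | _ d ih =>
    intro y hd hy
    by_contra hne
    obtain ⟨j, hj⟩ : ∃ j, j ∈ (bK.repr y).support :=
      Finset.nonempty_iff_ne_empty.2 fun e => hne (bK.repr.map_eq_zero_iff.1 (Finsupp.support_eq_empty.1 e))
    let z := (bK.repr y j)⁻¹ • y
    have hj0 : bK.repr y j ≠ 0 := Finsupp.mem_support_iff.1 hj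
    have hzj : bK.repr z j = 1 := by simp [z, hj0]
    have hzW : i z ∈ W := by rw [map_smul]; exact W.smul_mem _ hy
    have hzs : (bK.repr z).support ⊆ (bK.repr y).support := by
      rw [map_smul]; exact Finsupp.support_smul
    have hfix' : ∀ σ : K ≃ₐ[k] K, LinearMap.rTensor C σ.toLinearMap z = z := by
      intro σ
      rw [← sub_eq_zero]
      refine ih _ ?cardlt (LinearMap.rTensor C σ.toLinearMap z - z) rfl ?memW
      case cardlt =>
        rw [← hd]
        refine Finset.card_lt_card ⟨fun l hl => ?_, fun hsub => ?_⟩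
        · rw [map_sub, Finsupp.mem_support_iff, Finsupp.sub_apply, hrepr] at hl
          refine hzs (Finsupp.mem_support_iff.2 fun h0 => hl ?_)
          rw [h0, map_zero, sub_zero]
        · have := hsub hj
          rw [map_sub, Finsupp.mem_support_iff, Finsupp.sub_apply, hrepr, hzj, map_one, sub_self] at this
          exact this rfl
      case memW =>
        rw [map_sub, ← hstabP]
        exact sub_mem (hstab σ _ hzW) hzW
    have hc : ∀ l, ∃ c : k, algebraMap k K c = bK.repr z l := fun l =>
      hfix _ fun σ => by rw [← hrepr, hfix']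
    choose c hc using hc
    let v : C := ∑ l ∈ (bK.repr z).support, c l • b l
    have hz : z = (1 : K) ⊗ₜ[k] v := by
      conv_lhs => rw [← bK.linearCombination_repr z]
      rw [Finsupp.linearCombination_apply, Finsupp.sum, TensorProduct.tmul_sum]
      refine Finset.sum_congr rfl fun l _ => ?_
      rw [← hc l, algebraMap_smul, tmul_smul]
      simp [bK]
    have hv : (v : V) ∈ W₀ W ⊓ C := ⟨mem_W₀.2 (by rw [hz] at hzW; exact hzW), v.2⟩
    rw [hC.inf_eq_bot, Submodule.mem_bot] at hv
    have : bK.repr z j = 0 := by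
      rw [hz, show v = 0 from Subtype.ext hv, tmul_zero, map_zero, Finsupp.zero_apply]
    rw [hzj] at this
    exact one_ne_zero this

end Groth.L25.LargestMult
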