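import Groth.Agent.L25.LargestMult.Decomp

/-!
# Independence of the translates of the unipotent component
-/

set_option autoImplicit false
universe u

open TensorProduct

noncomputable section

namespace Groth.L25.LargestMult

open Groth.L08

variable {k : Type u} [Field k] {A : Type u} [CommRing A] [HopfAlgebra k A]

/-- the translate of a filtration step by a group-like element -/
def gN (g : GroupLike k A) (n : ℕ) : Submodule k A := (N k A n).map (LinearMap.mulLeft k g.val)

theorem mem_gN {g : GroupLike k A} {n : ℕ} {x : A} : x ∈ gN g n ↔ ∃ y ∈ N k A n, g.val * y = x := Iff.rfl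

theorem fAct_mem_gN (g : GroupLike k A) {n : ℕ} {x : A} (hx : x ∈ gN g n) (φ : A →ₗ[k] k) :
    fAct A φ x ∈ gN g n := by
  obtain ⟨y, hy, rfl⟩ := mem_gN.1 hx
  exact mem_gN.2 ⟨_, fAct_mem_of_isSubcomod (isSubcomod_N n) _ hy, (fAct_mul_left _ _ g.isGroupLikeElem_val φ).symm⟩

theorem sh_mem_gN (g : GroupLike k A) {n : ℕ} {x : A} (hx : x ∈ gN g (n + 1)) (φ : A →ₗ[k] k) :
    sh φ (φ g.val) x ∈ gN g n := by
  obtain ⟨y, hy, rfl⟩ := mem_gN.1 hx
  refine mem_gN.2 ⟨_, mem_N_succ.1 hy (φ ∘ₗ LinearMap.mulLeft k g.val), ?_⟩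
  rw [sh, LinearMap.sub_apply, LinearMap.smul_apply, LinearMap.id_apply,
    fAct_mul_left _ _ g.isGroupLikeElem_val φ, LinearMap.comp_apply, LinearMap.mulLeft_apply, mul_one,
    mul_sub, mul_smul_comm]

theorem pow_sh_eq_zero (g : GroupLike k A) (φ : A →ₗ[k] k) :
    ∀ {n : ℕ} {x : A}, x ∈ gN g n → (sh φ (φ g.val) ^ n) x = 0 := by
  intro n
  induction n with
  | zero =>
    intro x hx
    obtain ⟨y, hy, rfl⟩ := mem_gN.1 hx
    simp only [N, Submodule.mem_bot] at hy
    simp [hy]
  | succ n ih =>
    intro x hx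
    rw [pow_succ, Module.End.mul_apply]
    exact ih (sh_mem_gN g hx φ)

theorem pow_sh_mem_gN (g : GroupLike k A) (φ : A →ₗ[k] k) (a : k) (m : ℕ) :
    ∀ {n : ℕ} {x : A}, x ∈ gN g n → (sh φ a ^ m) x ∈ gN g n := by
  induction m with
  | zero => exact fun hx => hx
  | succ m ih =>
    intro n x hx
    rw [pow_succ, Module.End.mul_apply]
    exact ih (sub_mem (fAct_mem_gN g hx φ) ((gN g n).smul_mem a hx))

theorem eq_zero_of_pow (φ : A →ₗ[k] k) {a b : k} (hab : a ≠ b) (n : ℕ) :
    ∀ (m : ℕ) (x : A), (sh φ b ^ m) x = 0 → (sh φ a ^ n) x = 0 → x = 0 := by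
  intro m
  induction m with
  | zero => exact fun x hx _ => hx
  | succ m ih =>
    intro x hx hxa
    refine ih x ?_ hxa
    let z := (sh φ b ^ m) x
    have hz : sh φ b z = 0 := by
      rw [pow_succ'] at hx
      exact hx
    have hza : (sh φ a ^ n) z = (b - a) ^ n • z := by
      clear hxa ih
      induction n with
      | zero => simp
      | succ n ihn =>
        have h1 : sh φ a z = (b - a) • z := by
          have h2 : fAct A φ z - b • z = 0 := hz
          rw [sh, LinearMap.sub_apply, LinearMap.smul_apply, LinearMap.id_apply, sub_eq_zero.1 h2, sub_smul]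
        rw [pow_succ, Module.End.mul_apply, h1, map_smul, ihn, smul_smul, ← pow_succ']
    have hcomm : Commute (sh φ a) (sh φ b) := LinearMap.ext fun v => by
      simp only [sh, Module.End.mul_apply, LinearMap.sub_apply, LinearMap.smul_apply, LinearMap.id_apply,
        map_sub, map_smul, smul_sub, smul_comm a b]
      abel
    have h0 : (sh φ a ^ n) z = 0 := by
      change ((sh φ a ^ n) * (sh φ b ^ m)) x = 0
      rw [(hcomm.pow_pow n m).eq, Module.End.mul_apply, hxa, map_zero]
    rw [hza, smul_eq_zero] at h0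
    exact h0.resolve_left (pow_ne_zero _ (sub_ne_zero.2 (Ne.symm hab)))

theorem indep (s : Finset (GroupLike k A)) : ∀ (x : GroupLike k A → A) (n : ℕ),
    (∀ g ∈ s, x g ∈ gN g n) → ∑ g ∈ s, x g = 0 → ∀ g ∈ s, x g = 0 := by
  classical
  induction s using Finset.induction_on with
  | empty => simp
  | @insert j s hj ih =>
    intro x n hx hsum
    have hs : ∀ i ∈ s, x i = 0 := by
      intro i hi
      have hne : j.val ≠ i.val := fun e => hj (GroupLike.ext e ▸ hi)
      obtain ⟨φ, hφ⟩ : ∃ φ : Module.Dual k A, φ j.val ≠ φ i.val := by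
        by_contra! h
        exact hne (sub_eq_zero.1 ((Module.forall_dual_apply_eq_zero_iff k _).1
          fun φ => by rw [map_sub, h, sub_self]))
      have h0 : ∑ g ∈ s, (sh φ (φ j.val) ^ n) (x g) = 0 := by
        have := congrArg (sh φ (φ j.val) ^ n) hsum
        rwa [map_sum, map_zero, Finset.sum_insert hj,
          pow_sh_eq_zero j φ (hx j (Finset.mem_insert_self j s)), zero_add] at this
      have h1 := ih (fun g => (sh φ (φ j.val) ^ n) (x g)) n
        (fun g hg => pow_sh_mem_gN g φ _ n (hx g (Finset.mem_insert_of_mem hg))) h0 i hi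
      exact eq_zero_of_pow φ hφ n n (x i) (pow_sh_eq_zero i φ (hx i (Finset.mem_insert_of_mem hi))) h1
    intro g hg
    rcases Finset.mem_insert.1 hg with rfl | hg
    · rwa [Finset.sum_insert hj, Finset.sum_eq_zero hs, add_zero] at hsum
    · exact hs g hg

variable (k A) in
/-- multiplication of group-likes with the unipotent component -/
def dec : (GroupLike k A →₀ comp k A) →ₗ[k] A :=
  Finsupp.lsum k fun g => LinearMap.mulLeft k g.val ∘ₗ (comp k A).subtype

@[simp] theorem dec_single (g : GroupLike k A) (b : comp k A) :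
    dec k A (Finsupp.single g b) = g.val * (b : A) := by simp [dec]

theorem dec_injective : Function.Injective (dec k A) := by
  classical
  suffices key : ∀ f, dec k A f = 0 → f = 0 from fun f g h =>
    sub_eq_zero.1 (key _ ((map_sub (dec k A) f g).trans (sub_eq_zero.2 h)))
  intro f hf
  choose d hd using fun g : GroupLike k A => mem_comp.1 (f g).2
  let n := f.support.sup d
  have h := indep f.support (fun g => g.val * (f g : A)) n
    (fun g hg => mem_gN.2 ⟨_, N_mono (Finset.le_sup hg) (hd g), rfl⟩)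
    (by
      have e : dec k A f = f.sum fun g b => g.val * (b : A) := by simp [dec, Finsupp.sum]
      exact e.symm.trans hf)
  ext g
  by_cases hg : g ∈ f.support
  · have := h g hg
    exact ((IsGroupLikeElem.isUnit g.isGroupLikeElem_val).mul_right_eq_zero).1 this
  · simp [Finsupp.notMem_support_iff.1 hg]

theorem dec_surjective [IsAlgClosed k] [Coalgebra.IsCocomm k A] : Function.Surjective (dec k A) := by
  intro x
  have hmem : x ∈ M k A := eq_top_M (k := k) (A := A) ▸ Submodule.mem_top
  induction hmem using Submodule.span_induction with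
  | zero => exact ⟨0, map_zero _⟩
  | add a b _ _ ha hb =>
    obtain ⟨p, rfl⟩ := ha
    obtain ⟨q, rfl⟩ := hb
    exact ⟨p + q, map_add _ _ _⟩
  | smul r a _ ha =>
    obtain ⟨p, rfl⟩ := ha
    exact ⟨r • p, map_smul _ _ _⟩
  | mem z hz =>
    obtain ⟨g, n, v, hv, rfl⟩ := hz
    exact ⟨Finsupp.single g ⟨v, mem_comp.2 ⟨n, hv⟩⟩, dec_single _ _⟩

end Groth.L25.LargestMult
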