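import Groth.Agent.L25.LargestMult.Main
import Groth.Agent.L25.LargestMult.Indep
import Groth.Agent.L25.LargestMult.Descent
import Groth.Agent.S7951
import Groth.Agent.S2966
import Mathlib.FieldTheory.Galois.Infinite
import Mathlib.FieldTheory.Perfect
import Mathlib.FieldTheory.IsSepClosed

/-!
# A commutative affine group over a perfect field is the product of its parts of multiplicative type
and unipotent type
-/

set_option autoImplicit false
universe u
set_option linter.style.haveILetI false

open TensorProduct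

noncomputable section

namespace Groth.L25.LargestMult

open Groth.L08

variable {k : Type u} [Field k] {A : Type u} [CommRing A] [HopfAlgebra k A]
  {K : Type u} [Field K] [Algebra k K]

variable (K) in
/-- the base change of a functional -/
def ΨK (ψ : A →ₗ[k] k) : K ⊗[k] A →ₗ[K] K := LinearMap.liftBaseChange K (Algebra.linearMap k K ∘ₗ ψ)

theorem ΨK_tmul (ψ : A →ₗ[k] k) (s : K) (a : A) : ΨK K ψ (s ⊗ₜ[k] a) = s * algebraMap k K (ψ a) := by
  simp [ΨK]

theorem fAct_ΨK (ψ : A →ₗ[k] k) (s : K) (a : A) :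
    fAct (K ⊗[k] A) (ΨK K ψ) (s ⊗ₜ[k] a) = s ⊗ₜ[k] fAct A ψ a := by
  have h2 : s ⊗ₜ[k] a = s • ((1 : K) ⊗ₜ[k] a) := by rw [smul_tmul', smul_eq_mul, mul_one]
  rw [h2, map_smul, fAct_apply]
  change s • TensorProduct.rid K (K ⊗[k] A) ((ΨK K ψ).lTensor (K ⊗[k] A)
    (AlgebraTensorModule.tensorTensorTensorComm k K k K K K A A
      (CoalgebraStruct.comul (R := K) (A := K) 1 ⊗ₜ[k] Coalgebra.comul (R := k) a))) = _
  rw [CoactBr.comul_self_apply, fAct_apply]
  change _ = s ⊗ₜ[k] TensorProduct.rid k A (ψ.lTensor A (Coalgebra.comul (R := k) a))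
  induction Coalgebra.comul (R := k) a with
  | zero => simp
  | add p q hp hq => simp only [tmul_add, map_add, smul_add, hp, hq]
  | tmul p q =>
    simp [ΨK, Algebra.smul_def, mul_comm]
    rw [mul_comm s, ← Algebra.smul_def, mul_comm p, ← Algebra.smul_def, TensorProduct.smul_tmul]

theorem isGroupLikeElem_of_ΨK {g : K ⊗[k] A} (h1 : Coalgebra.counit (R := K) g = 1)
    (h2 : ∀ ψ : A →ₗ[k] k, fAct (K ⊗[k] A) (ΨK K ψ) g = ΨK K ψ g • g) : IsGroupLikeElem K g := by
  classical
  refine ⟨h1, ?_⟩
  let b := Module.Basis.ofVectorSpace k A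
  let bK := b.baseChange K
  refine (TensorProduct.equivFinsuppOfBasisRight bK).injective (Finsupp.ext fun i => ?_)
  have hc : bK.coord i = ΨK K (b.coord i) := bK.ext fun j => by
    simp [bK, ΨK_tmul, Finsupp.single_apply, apply_ite]
  rw [TensorProduct.equivFinsuppOfBasisRight_apply, TensorProduct.equivFinsuppOfBasisRight_apply, hc,
    LinearMap.lTensor_tmul, TensorProduct.rid_tmul, ← h2]
  rfl

/-- the conjugate of an element of a base change -/
def conjH (σ : K ≃ₐ[k] K) : K ⊗[k] A →ₐ[k] K ⊗[k] A :=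
  Algebra.TensorProduct.map (σ : K →ₐ[k] K) (AlgHom.id k A)

theorem conjH_tmul (σ : K ≃ₐ[k] K) (s : K) (a : A) : conjH σ (s ⊗ₜ[k] a) = σ s ⊗ₜ[k] a := rfl

theorem conjH_smul (σ : K ≃ₐ[k] K) (r : K) (x : K ⊗[k] A) : conjH σ (r • x) = σ r • conjH σ x := by
  induction x with
  | zero => simp
  | add a b ha hb => simp only [smul_add, map_add, ha, hb]
  | tmul s a => simp [TensorProduct.smul_tmul', conjH_tmul]

theorem conjH_groupLike (σ : K ≃ₐ[k] K) {g : K ⊗[k] A} (hg : IsGroupLikeElem K g) :
    IsGroupLikeElem K (conjH σ g) := by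
  have he : ∀ x : K ⊗[k] A, Coalgebra.counit (R := K) (conjH σ x) = σ (Coalgebra.counit (R := K) x) := by
    intro x
    induction x with
    | zero => simp
    | add a b ha hb => simp only [map_add, ha, hb]
    | tmul s a => simp [conjH_tmul, Algebra.smul_def]
  have hψ : ∀ (ψ : A →ₗ[k] k) (x : K ⊗[k] A), ΨK K ψ (conjH σ x) = σ (ΨK K ψ x) := by
    intro ψ x
    induction x with
    | zero => simp
    | add a b ha hb => simp only [map_add, ha, hb]
    | tmul s a => simp [conjH_tmul, ΨK_tmul]
  have hf : ∀ (ψ : A →ₗ[k] k) (x : K ⊗[k] A),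
      fAct (K ⊗[k] A) (ΨK K ψ) (conjH σ x) = conjH σ (fAct (K ⊗[k] A) (ΨK K ψ) x) := by
    intro ψ x
    induction x with
    | zero => simp
    | add a b ha hb => simp only [map_add, ha, hb]
    | tmul s a => simp [conjH_tmul, fAct_ΨK]
  refine isGroupLikeElem_of_ΨK (by rw [he, hg.counit_eq_one, map_one]) fun ψ => ?_
  rw [hf, hψ, ← conjH_smul]
  congr 1
  change TensorProduct.rid K _ ((ΨK K ψ).lTensor _ (Coalgebra.comul (R := K) g)) = _
  rw [hg.comul_eq_tmul_self]
  simp

variable (K A) in
/-- the span of the group-like elements -/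
def S : Submodule K (K ⊗[k] A) := Submodule.span K {g | IsGroupLikeElem K g}

theorem mul_mem_S {x y : K ⊗[k] A} (hx : x ∈ S A K) (hy : y ∈ S A K) : x * y ∈ S A K := by
  induction hx using Submodule.span_induction with
  | zero => simp
  | add a b _ _ ha hb => rw [add_mul]; exact add_mem ha hb
  | smul r a _ ha => rw [smul_mul_assoc]; exact Submodule.smul_mem _ r ha
  | mem g hg =>
    induction hy using Submodule.span_induction with
    | zero => simp
    | add a b _ _ ha hb => rw [mul_add]; exact add_mem ha hb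
    | smul r a _ ha => rw [mul_smul_comm]; exact Submodule.smul_mem _ r ha
    | mem h hh => exact Submodule.subset_span (hg.mul hh)

variable (k A) in
/-- the multiplicative part: the elements lying in the span of the group-likes over the algebraic closure -/
def C₀ : Subalgebra k A :=
  (W₀ (S A (AlgebraicClosure k))).toSubalgebra
    (mem_W₀.2 (Submodule.subset_span (by
      rw [Set.mem_setOf_eq, ← Algebra.TensorProduct.one_def]
      exact IsGroupLikeElem.one)))
    fun a b ha hb => mem_W₀.2 (by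
      rw [← one_mul (1 : AlgebraicClosure k), ← Algebra.TensorProduct.tmul_mul_tmul]
      exact mul_mem_S (mem_W₀.1 ha) (mem_W₀.1 hb))

theorem mem_C₀ {a : A} : a ∈ C₀ k A ↔ (1 : AlgebraicClosure k) ⊗ₜ[k] a ∈ S A (AlgebraicClosure k) :=
  Iff.rfl

theorem S_le [PerfectField k] :
    S A (AlgebraicClosure k) ≤ (Subalgebra.toSubmodule (C₀ k A)).baseChange (AlgebraicClosure k) := by
  refine le_baseChange_W₀ _ (fun x hx => ?_) fun σ w hw => ?_
  · exact (InfiniteGalois.mem_range_algebraMap_iff_fixed x).2 hx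
  · have e : LinearMap.rTensor A σ.toLinearMap w = conjH σ w := rfl
    rw [e]
    induction hw using Submodule.span_induction with
    | zero => simp
    | add a b _ _ ha hb => rw [map_add]; exact add_mem (ha rfl) (hb rfl)
    | smul r a _ ha => rw [conjH_smul]; exact Submodule.smul_mem _ _ (ha rfl)
    | mem g hg => exact Submodule.subset_span (conjH_groupLike σ hg)

variable [Coalgebra.IsCocomm k A]

theorem isHopfSubalgebra_C₀ : SGA3.IsHopfSubalgebra k A (C₀ k A) := by
  have hS : ∀ (φ : AlgebraicClosure k ⊗[k] A →ₗ[AlgebraicClosure k] AlgebraicClosure k),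
      ∀ x ∈ S A (AlgebraicClosure k), fAct (AlgebraicClosure k ⊗[k] A) φ x ∈ S A (AlgebraicClosure k) := by
    intro φ x hx
    induction hx using Submodule.span_induction with
    | zero => simp
    | add a b _ _ ha hb => rw [map_add]; exact add_mem ha hb
    | smul r a _ ha => rw [map_smul]; exact Submodule.smul_mem _ r ha
    | mem g hg =>
      change TensorProduct.rid _ _ (φ.lTensor _ (Coalgebra.comul (R := AlgebraicClosure k) g)) ∈ _
      rw [hg.comul_eq_tmul_self, LinearMap.lTensor_tmul, TensorProduct.rid_tmul]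
      exact Submodule.smul_mem _ _ (Submodule.subset_span hg)
  have hsub : HopfRep.IsSubcomod (k := k) (A := A) (Subalgebra.toSubmodule (C₀ k A)) :=
    isSubcomod_iff.2 fun ψ a ha => mem_C₀.2 (by
      rw [← fAct_ΨK]
      exact hS _ _ (mem_C₀.1 ha))
  refine ⟨fun a ha => ?_, fun a ha => ?_⟩
  · exact (isSubcoalg_iff.2
      ⟨hsub, fun ψ b hb => (lTr_eq_fAct ψ b).symm ▸ fAct_mem_of_isSubcomod hsub ψ hb⟩) a ha
  · have key : ∀ x ∈ S (k := k) A (AlgebraicClosure k),
        HopfAlgebraStruct.antipode (AlgebraicClosure k) x ∈ S A (AlgebraicClosure k) := by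
      intro x hx
      induction hx using Submodule.span_induction with
      | zero => simp
      | add a b _ _ ha hb => rw [map_add]; exact add_mem ha hb
      | smul r a _ ha => rw [map_smul]; exact Submodule.smul_mem _ r ha
      | mem g hg => exact Submodule.subset_span hg.antipode
    refine mem_C₀.2 ?_
    have h := key _ (mem_C₀.1 ha)
    rwa [TensorProduct.antipode_def, AlgebraTensorModule.map_tmul, HopfAlgebra.antipode_one] at h

variable (k A) in
/-- the ideal of the unipotent part -/
def I : Ideal A :=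
  letI := HopfSub.hopfAlgebra (isHopfSubalgebra_C₀ (k := k) (A := A))
  Ideal.map ((HopfSub.inclBialg (isHopfSubalgebra_C₀ (k := k) (A := A))) : C₀ k A →+* A)
    (RingHom.ker (Bialgebra.counitAlgHom k (C₀ k A)))

theorem isHopfIdeal_I : (I k A).IsHopfIdeal k :=
  letI := HopfSub.hopfAlgebra (isHopfSubalgebra_C₀ (k := k) (A := A))
  MultType.isHopfIdeal_map_ker (HopfSub.inclBialg (isHopfSubalgebra_C₀ (k := k) (A := A))) _ rfl

theorem mk_I_eq {a : A} (ha : a ∈ C₀ k A) :
    Ideal.Quotient.mk (I k A) a = algebraMap k (A ⧸ I k A) (Coalgebra.counit (R := k) a) := by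
  letI := HopfSub.hopfAlgebra (isHopfSubalgebra_C₀ (k := k) (A := A))
  rw [IsScalarTower.algebraMap_apply k A (A ⧸ I k A), Ideal.Quotient.algebraMap_eq, Ideal.Quotient.eq]
  let b : C₀ k A := ⟨a, ha⟩ - algebraMap k (C₀ k A) (Coalgebra.counit (R := k) a)
  have hb : b ∈ RingHom.ker (Bialgebra.counitAlgHom k (C₀ k A)) := by
    rw [RingHom.mem_ker, map_sub, AlgHom.commutes]
    exact sub_self _
  exact Ideal.mem_map_of_mem _ hb

theorem mk_J_eq {a : A} (ha : a ∈ B k A) :
    Ideal.Quotient.mk (J k A) a = algebraMap k (A ⧸ J k A) (Coalgebra.counit (R := k) a) := by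
  rw [IsScalarTower.algebraMap_apply k A (A ⧸ J k A), Ideal.Quotient.algebraMap_eq, Ideal.Quotient.eq]
  exact sub_counit_mem_J ha

theorem eq_top_mul [PerfectField k] :
    Submodule.span k {x : A | ∃ c ∈ C₀ k A, ∃ b ∈ B k A, x = c * b} = ⊤ := by
  let L := AlgebraicClosure k
  let T := Submodule.span k {x : A | ∃ c ∈ C₀ k A, ∃ b ∈ B k A, x = c * b}
  refine eq_top_iff.2 fun a _ => ?_
  have h : ∀ x : L ⊗[k] A, x ∈ T.baseChange L := by
    intro x
    obtain ⟨f, rfl⟩ := dec_surjective (k := L) (A := L ⊗[k] A) x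
    induction f using Finsupp.induction with
    | zero => simp
    | single_add g b f _ _ hf =>
      rw [map_add, dec_single]
      refine add_mem ?_ hf
      obtain ⟨n, hn⟩ := mem_comp.1 b.2
      have h1 := N_baseChange_le (K := L) n hn
      have h2 : g.val ∈ (Subalgebra.toSubmodule (C₀ k A)).baseChange L :=
        S_le (Submodule.subset_span g.isGroupLikeElem_val)
      rw [Submodule.baseChange_eq_span] at h2
      revert h2
      generalize g.val = gz
      intro h2
      induction h2 using Submodule.span_induction with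
      | zero => simp
      | add p q _ _ hp hq => rw [add_mul]; exact add_mem hp hq
      | smul r p _ hp => rw [smul_mul_assoc]; exact Submodule.smul_mem _ r hp
      | mem z hz =>
        obtain ⟨c, hc, rfl⟩ := hz
        rw [Submodule.baseChange_eq_span] at h1
        revert h1
        generalize (b : L ⊗[k] A) = bz
        intro h1
        induction h1 using Submodule.span_induction with
        | zero => simp
        | add p q _ _ hp hq => rw [mul_add]; exact add_mem hp hq
        | smul r p _ hp => rw [mul_smul_comm]; exact Submodule.smul_mem _ r hp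
        | mem z hz =>
          obtain ⟨w, hw, rfl⟩ := hz
          change ((1 : L) ⊗ₜ[k] c) * ((1 : L) ⊗ₜ[k] w) ∈ _
          rw [Algebra.TensorProduct.tmul_mul_tmul, one_mul]
          exact Submodule.tmul_mem_baseChange_of_mem _
            (Submodule.subset_span ⟨c, hc, w, mem_B.2 ⟨n, hw⟩, rfl⟩)
  obtain ⟨θ, hθ⟩ := exists_extend_inj (f := Algebra.linearMap k L)
    (LinearMap.ker_eq_bot.2 (algebraMap k L).injective) (LinearMap.id : k →ₗ[k] k)
  have := mem_baseChange_iff.1 (h (1 ⊗ₜ[k] a)) θ
  rw [co_tmul] at this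
  have h1 : θ 1 = 1 := by simpa using LinearMap.congr_fun hθ 1
  rwa [h1, one_smul] at this

variable (k A) in
/-- the comorphism of the multiplication of the two parts -/
def split : A →ₐ[k] (A ⧸ J k A) ⊗[k] (A ⧸ I k A) :=
  (Algebra.TensorProduct.map (Ideal.Quotient.mkₐ k (J k A)) (Ideal.Quotient.mkₐ k (I k A))).comp
    (Bialgebra.comulAlgHom k A)

theorem map_mk_comul_left {a : A} (ha : a ∈ C₀ k A) :
    split k A a = Ideal.Quotient.mk (J k A) a ⊗ₜ[k] 1 := by
  obtain ⟨z, hz⟩ := (isHopfSubalgebra_C₀ (k := k) (A := A)).1 a ha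
  have h2 := Coalgebra.lTensor_counit_comul (R := k) a
  simp only [split, AlgHom.comp_apply, Bialgebra.comulAlgHom_apply]
  rw [← hz] at h2 ⊢
  have h3 : ∀ w, Algebra.TensorProduct.map (Ideal.Quotient.mkₐ k (J k A)) (Ideal.Quotient.mkₐ k (I k A))
      (TensorProduct.map (C₀ k A).val.toLinearMap (C₀ k A).val.toLinearMap w) =
      Ideal.Quotient.mk (J k A) (TensorProduct.rid k A ((Coalgebra.counit (R := k) (A := A)).lTensor A
        (TensorProduct.map (C₀ k A).val.toLinearMap (C₀ k A).val.toLinearMap w))) ⊗ₜ[k] 1 := by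
    intro w
    induction w with
    | zero => simp
    | add p q hp hq => simp only [map_add, hp, hq, add_tmul]
    | tmul p q =>
      simp only [TensorProduct.map_tmul, AlgHom.toLinearMap_apply, Subalgebra.coe_val,
        Algebra.TensorProduct.map_tmul, Ideal.Quotient.mkₐ_eq_mk, LinearMap.lTensor_tmul,
        TensorProduct.rid_tmul]
      rw [mk_I_eq q.2, Algebra.algebraMap_eq_smul_one, tmul_smul, smul_tmul', ← Ideal.Quotient.mkₐ_eq_mk k,
        map_smul]
  rw [h3, h2, TensorProduct.rid_tmul, one_smul]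

theorem map_mk_comul_right {a : A} (ha : a ∈ B k A) :
    split k A a = 1 ⊗ₜ[k] Ideal.Quotient.mk (I k A) a := by
  obtain ⟨z, hz⟩ := (isHopfSubalgebra_B (k := k) (A := A)).1 a ha
  have h2 := Coalgebra.rTensor_counit_comul (R := k) a
  simp only [split, AlgHom.comp_apply, Bialgebra.comulAlgHom_apply]
  rw [← hz] at h2 ⊢
  have h3 : ∀ w, Algebra.TensorProduct.map (Ideal.Quotient.mkₐ k (J k A)) (Ideal.Quotient.mkₐ k (I k A))
      (TensorProduct.map (B k A).val.toLinearMap (B k A).val.toLinearMap w) =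
      1 ⊗ₜ[k] Ideal.Quotient.mk (I k A) (TensorProduct.lid k A ((Coalgebra.counit (R := k) (A := A)).rTensor A
        (TensorProduct.map (B k A).val.toLinearMap (B k A).val.toLinearMap w))) := by
    intro w
    induction w with
    | zero => simp
    | add p q hp hq => simp only [map_add, hp, hq, tmul_add]
    | tmul p q =>
      simp only [TensorProduct.map_tmul, AlgHom.toLinearMap_apply, Subalgebra.coe_val,
        Algebra.TensorProduct.map_tmul, Ideal.Quotient.mkₐ_eq_mk, LinearMap.rTensor_tmul,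
        TensorProduct.lid_tmul]
      rw [mk_J_eq p.2, Algebra.algebraMap_eq_smul_one, smul_tmul, ← Ideal.Quotient.mkₐ_eq_mk k, map_smul]
  rw [h3, h2, TensorProduct.lid_tmul, one_smul]

theorem exists_rep [PerfectField k] (x : A) :
    (∃ c ∈ C₀ k A, Ideal.Quotient.mk (J k A) c = Ideal.Quotient.mk (J k A) x) ∧
      ∃ b ∈ B k A, Ideal.Quotient.mk (I k A) b = Ideal.Quotient.mk (I k A) x := by
  have hx : x ∈ Submodule.span k {x : A | ∃ c ∈ C₀ k A, ∃ b ∈ B k A, x = c * b} :=
    eq_top_mul (k := k) (A := A) ▸ Submodule.mem_top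
  induction hx using Submodule.span_induction with
  | zero => exact ⟨⟨0, zero_mem _, rfl⟩, 0, zero_mem _, rfl⟩
  | add p q _ _ hp hq =>
    obtain ⟨⟨c, hc, ec⟩, b, hb, eb⟩ := hp
    obtain ⟨⟨c', hc', ec'⟩, b', hb', eb'⟩ := hq
    exact ⟨⟨c + c', add_mem hc hc', by rw [map_add, map_add, ec, ec']⟩,
      b + b', add_mem hb hb', by rw [map_add, map_add, eb, eb']⟩
  | smul r p _ hp =>
    obtain ⟨⟨c, hc, ec⟩, b, hb, eb⟩ := hp
    refine ⟨⟨r • c, Subalgebra.smul_mem _ hc r, ?_⟩, r • b, Subalgebra.smul_mem _ hb r, ?_⟩ <;>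
      simp only [Algebra.smul_def, map_mul, ec, eb]
  | mem z hz =>
    obtain ⟨c, hc, b, hb, rfl⟩ := hz
    refine ⟨⟨Coalgebra.counit (R := k) b • c, Subalgebra.smul_mem _ hc _, ?_⟩,
      Coalgebra.counit (R := k) c • b, Subalgebra.smul_mem _ hb _, ?_⟩
    · rw [map_mul, mk_J_eq hb, ← Ideal.Quotient.mkₐ_eq_mk k, map_smul, Algebra.smul_def, mul_comm]
    · rw [map_mul, mk_I_eq hc, ← Ideal.Quotient.mkₐ_eq_mk k, map_smul, Algebra.smul_def]

theorem split_surjective [PerfectField k] : Function.Surjective (split k A) := by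
  intro y
  induction y with
  | zero => exact ⟨0, map_zero _⟩
  | add p q hp hq =>
    obtain ⟨a, rfl⟩ := hp
    obtain ⟨b, rfl⟩ := hq
    exact ⟨a + b, map_add _ _ _⟩
  | tmul p q =>
    obtain ⟨x, rfl⟩ := Ideal.Quotient.mk_surjective p
    obtain ⟨y, rfl⟩ := Ideal.Quotient.mk_surjective q
    obtain ⟨c, hc, ec⟩ := (exists_rep (k := k) x).1
    obtain ⟨b, hb, eb⟩ := (exists_rep (k := k) y).2
    exact ⟨c * b, by
      rw [map_mul, map_mk_comul_left hc, map_mk_comul_right hb, Algebra.TensorProduct.tmul_mul_tmul,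
        one_mul, mul_one, ec, eb]⟩

theorem baseChange_N_le : ∀ n, (N k A n).baseChange K ≤ N K (K ⊗[k] A) n
  | 0 => by simp [N]
  | n + 1 => fun x hx => mem_N_succ.2 fun φ => baseChange_N_le n (by
      have h : Step (1 : A) (N k A n) (N k A (n + 1)) := fun v hv ψ => mem_N_succ.1 hv ψ
      rw [Algebra.TensorProduct.one_def]
      exact fAct_tmul_mem h hx φ)

section Injective

variable {L : Type u} [Field L] [IsAlgClosed L] {H : Type u} [CommRing H] [HopfAlgebra L H]
  [Coalgebra.IsCocomm L H]

variable (L H) in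
/-- the decomposition -/
def decE : (GroupLike L H →₀ comp L H) ≃ₗ[L] H :=
  LinearEquiv.ofBijective (dec L H) ⟨dec_injective, dec_surjective⟩

@[simp] theorem decE_single (g : GroupLike L H) (b : comp L H) :
    decE L H (Finsupp.single g b) = g.val * (b : H) := dec_single g b

theorem decE_symm (g : GroupLike L H) (b : comp L H) :
    (decE L H).symm (g.val * (b : H)) = Finsupp.single g b := by
  rw [LinearEquiv.symm_apply_eq, decE_single]

variable (L H) in
/-- the counit on the unipotent component -/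
def εc : comp L H →ₗ[L] L := Coalgebra.counit ∘ₗ (comp L H).subtype

variable (L H) in
/-- the component on the group-likes -/
def qd : H →ₗ[L] (GroupLike L H →₀ L) :=
  Finsupp.mapRange.linearMap (εc L H) ∘ₗ (decE L H).symm.toLinearMap

variable (L H) in
/-- the unipotent component -/
def Rd : H →ₗ[L] H := (Finsupp.lsum L fun _ => (comp L H).subtype) ∘ₗ (decE L H).symm.toLinearMap

theorem qd_mul (g : GroupLike L H) (b : comp L H) :
    qd L H (g.val * (b : H)) = Finsupp.single g (Coalgebra.counit (R := L) (b : H)) := by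
  simp [qd, decE_symm, εc]

theorem Rd_mul (g : GroupLike L H) (b : comp L H) : Rd L H (g.val * (b : H)) = b := by
  simp [Rd, decE_symm]

theorem qd_mul_comp (f : GroupLike L H →₀ comp L H) {z : H} (hz : z ∈ comp L H) :
    qd L H (decE L H f * z) = Coalgebra.counit (R := L) z • qd L H (decE L H f) := by
  induction f using Finsupp.induction with
  | zero => simp
  | single_add g b f _ _ hf =>
    rw [map_add, add_mul, map_add, map_add, hf, smul_add]
    congr 1
    obtain ⟨m, hm⟩ := mem_comp.1 b.2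
    obtain ⟨n, hn⟩ := mem_comp.1 hz
    have e : qd L H (g.val * ((b : H) * z)) = Finsupp.single g (Coalgebra.counit (R := L) ((b : H) * z)) :=
      qd_mul g ⟨(b : H) * z, mem_comp.2 ⟨m + n, mul_mem_N _ m n rfl _ hm _ hn⟩⟩
    rw [decE_single, mul_assoc, e, qd_mul, Finsupp.smul_single, Bialgebra.counit_mul, smul_eq_mul, mul_comm]

theorem Rd_mul_groupLike (f : GroupLike L H →₀ comp L H) {z : H} (hz : IsGroupLikeElem L z) :
    Rd L H (decE L H f * z) = Rd L H (decE L H f) := by
  induction f using Finsupp.induction with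
  | zero => simp
  | single_add g b f _ _ hf =>
    rw [map_add, add_mul, map_add, map_add, hf]
    congr 1
    let g' : GroupLike L H := g * ⟨z, hz⟩
    have hv : g.val * z = g'.val := (GroupLike.val_mul g ⟨z, hz⟩).symm
    rw [decE_single, mul_right_comm, hv, Rd_mul, Rd_mul]

theorem map_comul_decE (f : GroupLike L H →₀ comp L H) :
    TensorProduct.map (qd L H) (Rd L H) (Coalgebra.comul (R := L) (decE L H f)) =
      f.sum fun g b => Finsupp.single g (1 : L) ⊗ₜ[L] (b : H) := by
  induction f using Finsupp.induction with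
  | zero => simp
  | single_add g b f hgf hb hf =>
    rw [map_add, map_add, map_add, hf, Finsupp.sum_add_index' (by simp) (by intros; simp [tmul_add]),
      Finsupp.sum_single_index (by simp)]
    congr 1
    rw [decE_single, Bialgebra.comul_mul, g.isGroupLikeElem_val.comul_eq_tmul_self]
    obtain ⟨z, hz⟩ := (isHopfSubalgebra_B (k := L) (A := H)).1 b.1 b.2
    have h2 := Coalgebra.rTensor_counit_comul (R := L) (b : H)
    rw [← hz] at h2 ⊢
    have h3 : ∀ w, TensorProduct.map (qd L H) (Rd L H) (g.val ⊗ₜ[L] g.val *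
        TensorProduct.map (B L H).val.toLinearMap (B L H).val.toLinearMap w) =
        Finsupp.single g (1 : L) ⊗ₜ[L] TensorProduct.lid L _ ((Coalgebra.counit (R := L)).rTensor _
          (TensorProduct.map (B L H).val.toLinearMap (B L H).val.toLinearMap w)) := by
      intro w
      induction w with
      | zero => simp
      | add x y hx hy => simp only [mul_add, map_add, hx, hy, tmul_add]
      | tmul x y =>
        simp only [TensorProduct.map_tmul, AlgHom.toLinearMap_apply, Subalgebra.coe_val,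
          Algebra.TensorProduct.tmul_mul_tmul, LinearMap.rTensor_tmul, TensorProduct.lid_tmul]
        have ex : qd L H (g.val * (x : H)) = Finsupp.single g (Coalgebra.counit (R := L) (x : H)) :=
          qd_mul g ⟨x.1, x.2⟩
        have ey : Rd L H (g.val * (y : H)) = (y : H) := Rd_mul g ⟨y.1, y.2⟩
        rw [ex, ey, ← Finsupp.smul_single_one, smul_tmul]
    rw [h3, h2, TensorProduct.lid_tmul, one_smul]

end Injective

theorem split_injective : Function.Injective (split k A) := by
  classical
  let L := AlgebraicClosure k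
  have hqJ : ∀ a ∈ J k A, qd L (L ⊗[k] A) ((1 : L) ⊗ₜ[k] a) = 0 := by
    intro a ha
    suffices h : ∀ r, qd L (L ⊗[k] A) ((1 : L) ⊗ₜ[k] (r * a)) = 0 by simpa using h 1
    unfold J Ideal.map at ha
    induction ha using Submodule.span_induction with
    | zero => simp
    | add x y _ _ hx hy => intro r; rw [mul_add, tmul_add, map_add, hx, hy, add_zero]
    | smul s x _ hx => intro r; rw [smul_eq_mul, ← mul_assoc]; exact hx _
    | mem x hx =>
      intro r
      obtain ⟨b, hb, rfl⟩ := hx
      have hb0 : Coalgebra.counit (R := k) (b : A) = 0 := hb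
      obtain ⟨n, hn⟩ := mem_B.1 b.2
      obtain ⟨f, hf⟩ := (decE L (L ⊗[k] A)).surjective ((1 : L) ⊗ₜ[k] r)
      change qd L (L ⊗[k] A) ((1 : L) ⊗ₜ[k] (r * (b : A))) = 0
      rw [← one_mul (1 : L), ← Algebra.TensorProduct.tmul_mul_tmul, ← hf,
        qd_mul_comp f (mem_comp.2 ⟨n, baseChange_N_le n (Submodule.tmul_mem_baseChange_of_mem _ hn)⟩)]
      simp [hb0]
  have hRI : ∀ a ∈ I k A, Rd L (L ⊗[k] A) ((1 : L) ⊗ₜ[k] a) = 0 := by
    intro a ha
    suffices h : ∀ r, Rd L (L ⊗[k] A) ((1 : L) ⊗ₜ[k] (r * a)) = 0 by simpa using h 1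
    unfold I Ideal.map at ha
    induction ha using Submodule.span_induction with
    | zero => simp
    | add x y _ _ hx hy => intro r; rw [mul_add, tmul_add, map_add, hx, hy, add_zero]
    | smul s x _ hx => intro r; rw [smul_eq_mul, ← mul_assoc]; exact hx _
    | mem x hx =>
      intro r
      obtain ⟨c, hc, rfl⟩ := hx
      have hc0 : Coalgebra.counit (R := k) (c : A) = 0 := hc
      obtain ⟨f, hf⟩ := (decE L (L ⊗[k] A)).surjective ((1 : L) ⊗ₜ[k] r)
      change Rd L (L ⊗[k] A) ((1 : L) ⊗ₜ[k] (r * (c : A))) = 0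
      rw [← one_mul (1 : L), ← Algebra.TensorProduct.tmul_mul_tmul, ← hf]
      have key : ∀ z ∈ S A L, Rd L (L ⊗[k] A) (decE L (L ⊗[k] A) f * z) =
          Coalgebra.counit (R := L) z • Rd L (L ⊗[k] A) (decE L (L ⊗[k] A) f) := by
        intro z hz
        induction hz using Submodule.span_induction with
        | zero => simp
        | add x y _ _ hx hy => rw [mul_add, map_add, hx, hy, map_add, add_smul]
        | smul t x _ hx => rw [mul_smul_comm, map_smul, hx, map_smul, smul_eq_mul, mul_smul]
        | mem g hg => rw [hg.counit_eq_one, one_smul, Rd_mul_groupLike f hg]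
      rw [key _ (mem_C₀.1 c.2)]
      simp [hc0]
  refine fun a b hab => Algebra.TensorProduct.includeRight_injective (A := L) (algebraMap k L).injective ?_
  obtain ⟨fa, ha⟩ := (decE L (L ⊗[k] A)).surjective ((1 : L) ⊗ₜ[k] a)
  obtain ⟨fb, hb⟩ := (decE L (L ⊗[k] A)).surjective ((1 : L) ⊗ₜ[k] b)
  rw [Algebra.TensorProduct.includeRight_apply, Algebra.TensorProduct.includeRight_apply, ← ha, ← hb]
  congr 1
  let qk : A ⧸ J k A →ₗ[k] (GroupLike L (L ⊗[k] A) →₀ L) :=
    ((J k A).restrictScalars k).liftQ ((qd L (L ⊗[k] A)).restrictScalars k ∘ₗ TensorProduct.mk k L A 1) hqJ ∘ₗ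
      (Submodule.Quotient.restrictScalarsEquiv k (J k A)).symm.toLinearMap
  let Rk : A ⧸ I k A →ₗ[k] L ⊗[k] A :=
    ((I k A).restrictScalars k).liftQ ((Rd L (L ⊗[k] A)).restrictScalars k ∘ₗ TensorProduct.mk k L A 1) hRI ∘ₗ
      (Submodule.Quotient.restrictScalarsEquiv k (I k A)).symm.toLinearMap
  let P : (A ⧸ J k A) ⊗[k] (A ⧸ I k A) →ₗ[k] (GroupLike L (L ⊗[k] A) →₀ L) ⊗[L] (L ⊗[k] A) :=
    TensorProduct.lift (LinearMap.mk₂ k (fun x y => qk x ⊗ₜ[L] Rk y)
      (fun x x' y => by rw [map_add, add_tmul])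
      (fun c x y => by rw [map_smul, smul_tmul'])
      (fun x y y' => by rw [map_add, tmul_add])
      (fun c x y => by rw [map_smul, tmul_smul]))
  let T := TensorProduct.map (qd L (L ⊗[k] A)) (Rd L (L ⊗[k] A))
  have hP : ∀ a, P (split k A a) = T (Coalgebra.comul (R := L) ((1 : L) ⊗ₜ[k] a)) := by
    intro a
    change P (Algebra.TensorProduct.map _ _ (Coalgebra.comul (R := k) a)) =
      T (AlgebraTensorModule.tensorTensorTensorComm k L k L L L A A
        (CoalgebraStruct.comul (R := L) (A := L) 1 ⊗ₜ[k] Coalgebra.comul (R := k) a))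
    rw [CoactBr.comul_self_apply]
    induction Coalgebra.comul (R := k) a with
    | zero => simp
    | add x y hx hy => simp only [tmul_add, map_add, hx, hy]
    | tmul x y => rfl
  have h := congrArg P hab
  rw [hP, hP, ← ha, ← hb] at h
  simp only [T, map_comul_decE] at h
  let U : (GroupLike L (L ⊗[k] A) →₀ L) ⊗[L] (L ⊗[k] A) ≃ₗ[L] (GroupLike L (L ⊗[k] A) →₀ L ⊗[k] A) :=
    TensorProduct.finsuppScalarLeft L (L ⊗[k] A) _
  have hU : ∀ f : GroupLike L (L ⊗[k] A) →₀ comp L (L ⊗[k] A),
      U (f.sum fun g b => Finsupp.single g (1 : L) ⊗ₜ[L] (b : L ⊗[k] A)) =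
        Finsupp.mapRange Subtype.val rfl f := by
    intro f
    induction f using Finsupp.induction with
    | zero => simp
    | single_add g c f hgf hc hf =>
      rw [Finsupp.sum_add_index' (by simp) (by intros; simp [tmul_add]), map_add, hf,
        Finsupp.mapRange_add (by intros; rfl), Finsupp.sum_single_index (by simp)]
      congr 1
      ext g'
      classical
      simp [U, TensorProduct.finsuppScalarLeft_apply_tmul_apply, Finsupp.single_apply, apply_ite]
      split_ifs with h1 <;> simp [h1]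
  have h' := congrArg U h
  rw [hU, hU] at h'
  exact Finsupp.mapRange_injective _ _ Subtype.val_injective h'

theorem isUnipotent_quotient [PerfectField k] : letI := isHopfIdeal_I (k := k) (A := A)
    HopfRep.IsUnipotent k (A ⧸ I k A) := by
  letI := isHopfIdeal_I (k := k) (A := A)
  letI := HopfSub.hopfAlgebra (isHopfSubalgebra_B (k := k) (A := A))
  let π : B k A →ₐc[k] A ⧸ I k A :=
    (Bialgebra.Quotient.mkBialgHom (I k A)).comp (HopfSub.inclBialg (isHopfSubalgebra_B (k := k) (A := A)))
  refine isUnipotent_of_hasFlag fun x => hasFlag_of_surjective (π : B k A →ₗc[k] A ⧸ I k A)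
    (fun y => ?_) (P := fun g => g = 1) (fun g hg => by subst hg; exact map_one π) (fun b => ?_) x
  · obtain ⟨y, rfl⟩ := Ideal.Quotient.mk_surjective y
    obtain ⟨b, hb, eb⟩ := (exists_rep (k := k) y).2
    exact ⟨⟨b, hb⟩, eb⟩
  · exact hasFlag_of_isUnipotent isUnipotent_B b

theorem I_le [PerfectField k] [Algebra.FiniteType k A] (I' : Ideal A) [I'.IsHopfIdeal k]
    (hU : HopfRep.IsUnipotent k (A ⧸ I')) : I k A ≤ I' := by
  let L := AlgebraicClosure k
  haveI : Algebra.FiniteType k (A ⧸ I') :=
    Algebra.FiniteType.of_surjective (Ideal.Quotient.mkₐ k I') Ideal.Quotient.mk_surjective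
  have hUK := (Groth.Agent.S7951.result k L (A ⧸ I')).1 hU
  let π : L ⊗[k] A →ₐc[L] L ⊗[k] (A ⧸ I') :=
    Bialgebra.TensorProduct.map (BialgHom.id L L) (Bialgebra.Quotient.mkBialgHom I')
  unfold I
  rw [Ideal.map_le_iff_le_comap]
  intro c hc
  have hc0 : Coalgebra.counit (R := k) (c : A) = 0 := hc
  rw [Ideal.mem_comap, ← Ideal.Quotient.eq_zero_iff_mem]
  have key : ∀ z ∈ S A L, π z = Coalgebra.counit (R := L) z • 1 := by
    intro z hz
    induction hz using Submodule.span_induction with
    | zero => simp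
    | add x y _ _ hx hy => rw [map_add, hx, hy, map_add, add_smul]
    | smul t x _ hx => rw [map_smul, hx, map_smul, smul_eq_mul, mul_smul]
    | mem g hg => rw [Groth.Agent.S2966.groupLike_eq_one hUK (hg.map π), hg.counit_eq_one, one_smul]
  have h := key _ (mem_C₀.1 c.2)
  simp [hc0] at h
  exact Algebra.TensorProduct.includeRight_injective (A := L) (algebraMap k L).injective
    ((show (1 : L) ⊗ₜ[k] Ideal.Quotient.mk I' (c : A) = 0 from h).trans (tmul_zero _ _).symm)

theorem eq_I [PerfectField k] [Algebra.FiniteType k A] (I' : Ideal A) [I'.IsHopfIdeal k]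
    (hU : HopfRep.IsUnipotent k (A ⧸ I'))
    (hinj : Function.Injective ((Algebra.TensorProduct.map (Ideal.Quotient.mkₐ k (J k A))
      (Ideal.Quotient.mkₐ k I')).comp (Bialgebra.comulAlgHom k A))) : I' = I k A := by
  refine le_antisymm (fun x hx => ?_) (I_le I' hU)
  let f : A ⧸ I k A →ₐ[k] A ⧸ I' := Ideal.Quotient.factorₐ k (I_le I' hU)
  have hf : ∀ y, f (Ideal.Quotient.mk _ y) = Ideal.Quotient.mk _ y := fun y => rfl
  have hm : ∀ y, ((Algebra.TensorProduct.map (Ideal.Quotient.mkₐ k (J k A))
      (Ideal.Quotient.mkₐ k I')).comp (Bialgebra.comulAlgHom k A)) y =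
      Algebra.TensorProduct.map (AlgHom.id k _) f (split k A y) := by
    intro y
    simp only [split, AlgHom.comp_apply, Bialgebra.comulAlgHom_apply]
    induction Coalgebra.comul (R := k) y with
    | zero => simp
    | add p q hp hq => simp only [map_add, hp, hq]
    | tmul p q => rfl
  obtain ⟨y, hy⟩ := split_surjective (k := k) (A := A) (1 ⊗ₜ[k] Ideal.Quotient.mk (I k A) x)
  have h1 := hm y
  rw [hy, Algebra.TensorProduct.map_tmul, hf, Ideal.Quotient.eq_zero_iff_mem.2 hx, tmul_zero,
    ← map_zero ((Algebra.TensorProduct.map (Ideal.Quotient.mkₐ k (J k A))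
      (Ideal.Quotient.mkₐ k I')).comp (Bialgebra.comulAlgHom k A))] at h1
  rw [hinj h1, map_zero] at hy
  rw [← Ideal.Quotient.eq_zero_iff_mem]
  letI := isHopfIdeal_J (k := k) (A := A)
  have := congrArg (fun t => TensorProduct.lid k (A ⧸ I k A)
    ((Coalgebra.counit (R := k) (A := A ⧸ J k A)).rTensor _ t)) hy
  simpa using this.symm

end Groth.L25.LargestMult
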