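import Groth.Agent.L25.LargestMult.Unip
import Mathlib.LinearAlgebra.Eigenspace.Triangularizable
import Mathlib.RingTheory.Artinian.Module
import Mathlib.RingTheory.HopfAlgebra.GroupLike

/-!
# A cocommutative Hopf algebra over an algebraically closed field is spanned by group-likes times
the unipotent component
-/

set_option autoImplicit false
universe u

open TensorProduct

noncomputable section

namespace Groth.L25.LargestMult

open Groth.L08

variable {k : Type u} [Field k] {A : Type u} [CommRing A] [HopfAlgebra k A]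

theorem fAct_comm [Coalgebra.IsCocomm k A] (φ ψ : A →ₗ[k] k) (a : A) :
    fAct A φ (fAct A ψ a) = fAct A ψ (fAct A φ a) := by
  have h := fAct_mul (V := A) (WithConv.toConv φ) (WithConv.toConv ψ)
  rw [mul_comm, fAct_mul] at h
  exact (LinearMap.congr_fun h a).symm

theorem fAct_mul_left (g y : A) (hg : IsGroupLikeElem k g) (φ : A →ₗ[k] k) :
    fAct A φ (g * y) = g * fAct A (φ ∘ₗ LinearMap.mulLeft k g) y := by
  change TensorProduct.rid k A (φ.lTensor A (Coalgebra.comul (R := k) (g * y))) =
    g * TensorProduct.rid k A ((φ ∘ₗ LinearMap.mulLeft k g).lTensor A (Coalgebra.comul (R := k) y))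
  rw [Bialgebra.comul_mul, hg.comul_eq_tmul_self]
  induction Coalgebra.comul (R := k) y with
  | zero => simp
  | add p q hp hq => simp only [mul_add, map_add, hp, hq]
  | tmul p q => simp [Algebra.mul_smul_comm]

/-- a shifted translation operator -/
def sh (φ : A →ₗ[k] k) (r : k) : Module.End k A := fAct A φ - r • LinearMap.id

variable (k A) in
/-- the span of the translates of the unipotent component by group-likes -/
def M : Submodule k A :=
  Submodule.span k {x | ∃ (g : GroupLike k A) (n : ℕ) (y : A), y ∈ N k A n ∧ x = g.val * y}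

theorem exists_lt_step {W C : Submodule k A} [Module.Finite k C]
    (hC : HopfRep.IsSubcomod (k := k) (A := A) C) (hW : HopfRep.IsSubcomod (k := k) (A := A) W)
    [Coalgebra.IsCocomm k A] (hlt : W < C) (c : (A →ₗ[k] k) → k)
    (hnil : ∀ φ, ∃ n : ℕ, ∀ v ∈ C, (sh φ (c φ) ^ n) v = 0) :
    ∃ W', HopfRep.IsSubcomod (k := k) (A := A) W' ∧ W < W' ∧ W' ≤ C ∧
      ∀ φ, ∀ v ∈ W', sh φ (c φ) v ∈ W := by
  classical
  have hex : ∃ d, ∃ W' : Submodule k A, HopfRep.IsSubcomod (k := k) (A := A) W' ∧ W < W' ∧ W' ≤ C ∧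
      Module.finrank k W' = d := ⟨_, C, hC, hlt, le_rfl, rfl⟩
  obtain ⟨W', hW', hlt', hle', hd⟩ := Nat.find_spec hex
  haveI : Module.Finite k W' := Module.Finite.of_injective _ (Submodule.inclusion_injective hle')
  refine ⟨W', hW', hlt', hle', fun φ => ?_⟩
  let f := sh φ (c φ)
  let V := W'.map f ⊔ W
  have hV : HopfRep.IsSubcomod (k := k) (A := A) V := by
    refine isSubcomod_sup (isSubcomod_iff.2 fun ψ v hv => ?_) hW
    obtain ⟨w, hw, rfl⟩ := hv
    refine ⟨fAct A ψ w, fAct_mem_of_isSubcomod hW' ψ hw, ?_⟩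
    simp only [f, sh, LinearMap.sub_apply, LinearMap.smul_apply, LinearMap.id_apply, map_sub, map_smul,
      fAct_comm φ ψ]
  have hVW' : V ≤ W' := by
    refine sup_le ?_ hlt'.le
    rintro _ ⟨w, hw, rfl⟩
    exact sub_mem (fAct_mem_of_isSubcomod hW' φ hw) (W'.smul_mem _ hw)
  rcases (le_sup_right : W ≤ V).eq_or_lt with h | h
  · exact fun v hv => h ▸ Submodule.mem_sup_left ⟨v, hv, rfl⟩
  · have hVeq : V = W' := by
      refine Submodule.eq_of_le_of_finrank_le hVW' (le_of_not_gt fun hlt2 => ?_)
      exact Nat.find_min hex (hd ▸ hlt2) ⟨V, hV, h, hVW'.trans hle', rfl⟩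
    have hit : ∀ n, W' ≤ W'.map (f ^ n) ⊔ W := by
      intro n
      induction n with
      | zero => simp [Module.End.one_eq_id]
      | succ n ih =>
        intro v hv
        obtain ⟨a, ha, b, hb, rfl⟩ := Submodule.mem_sup.1 (ih hv)
        obtain ⟨w, hw, rfl⟩ := ha
        rw [← hVeq] at hw
        obtain ⟨a', ha', b', hb', rfl⟩ := Submodule.mem_sup.1 hw
        obtain ⟨w', hw', rfl⟩ := ha'
        rw [map_add, add_assoc]
        refine Submodule.add_mem_sup ⟨w', hw', by rw [pow_succ]; rfl⟩ (add_mem ?_ hb)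
        have hst : ∀ m : ℕ, ∀ x ∈ W, (f ^ m) x ∈ W := by
          intro m
          induction m with
          | zero => exact fun x hx => hx
          | succ m ihm =>
            intro x hx
            rw [pow_succ]
            exact ihm _ (sub_mem (fAct_mem_of_isSubcomod hW φ hx) (W.smul_mem _ hx))
        exact hst n b' hb'
    obtain ⟨N₀, hN₀⟩ := hnil φ
    refine absurd ((hit N₀).trans (sup_le ?_ le_rfl)) hlt'.not_ge
    rintro _ ⟨w, hw, rfl⟩
    rw [hN₀ w (hle' hw)]
    exact zero_mem _

theorem le_M_of_scalar [Coalgebra.IsCocomm k A] {C : Submodule k A} [Module.Finite k C]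
    (hC : HopfRep.IsSubcomod (k := k) (A := A) C) (c : (A →ₗ[k] k) → k)
    (hnil : ∀ φ, ∃ n : ℕ, ∀ v ∈ C, (sh φ (c φ) ^ n) v = 0) : C ≤ M k A := by
  classical
  by_cases hb : C = ⊥
  · rw [hb]; exact bot_le
  obtain ⟨W₁, hW₁, hlt₁, hle₁, hst₁⟩ :=
    exists_lt_step hC isSubcomod_bot (bot_lt_iff_ne_bot.2 hb) c hnil
  obtain ⟨s, hs, hs0⟩ := Submodule.exists_mem_ne_zero_of_ne_bot hlt₁.ne'
  have hsc : ∀ φ, fAct A φ s = c φ • s := fun φ => sub_eq_zero.1 ((Submodule.mem_bot k).1 (hst₁ φ s hs))
  obtain ⟨θ, hθ⟩ : ∃ θ : Module.Dual k A, θ s = 1 := by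
    obtain ⟨θ, hθ⟩ := exists_extend_inj (f := LinearMap.toSpanSingleton k A s)
      (LinearMap.ker_eq_bot'.2 fun r hr => (smul_eq_zero.1 hr).resolve_right hs0) (LinearMap.id : k →ₗ[k] k)
    exact ⟨θ, by simpa using LinearMap.congr_fun hθ 1⟩
  let g : A := cf θ s
  have hg : ∀ φ, φ g = c φ := fun φ => by
    rw [show φ g = θ (fAct A φ s) from apply_cf φ θ s, hsc, map_smul, hθ, smul_eq_mul, mul_one]
  have hρ : Coalgebra.comul (R := k) s = s ⊗ₜ[k] g := by
    let b := Module.Basis.ofVectorSpace k A
    refine (TensorProduct.equivFinsuppOfBasisRight b).injective (Finsupp.ext fun i => ?_)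
    rw [TensorProduct.equivFinsuppOfBasisRight_apply, TensorProduct.equivFinsuppOfBasisRight_apply,
      LinearMap.lTensor_tmul, TensorProduct.rid_tmul, hg, ← hsc]
    rfl
  have hgl : IsGroupLikeElem k g := by
    refine ⟨?_, ?_⟩
    · rw [hg]
      have := hsc Coalgebra.counit
      rw [fAct_counit, LinearMap.id_apply] at this
      exact smul_left_injective k hs0 (show c Coalgebra.counit • s = (1 : k) • s by rw [one_smul, ← this])
    · have h := LinearMap.congr_fun (isComodHom_cf (A := A) θ) s
      simp only [LinearMap.comp_apply] at h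
      change Coalgebra.comul (R := k) g = (cf θ).rTensor A (Coalgebra.comul (R := k) s) at h
      rwa [hρ, LinearMap.rTensor_tmul] at h
  have hgl' : IsGroupLikeElem k (HopfAlgebraStruct.antipode k g) := hgl.antipode
  have hginv : g * HopfAlgebraStruct.antipode k g = 1 := hgl.mul_antipode_cancel
  have hflag : ∀ d : ℕ, ∀ W : Submodule k A, HopfRep.IsSubcomod (k := k) (A := A) W → W ≤ C →
      Module.finrank k W + d = Module.finrank k C → ∀ m, (∀ w ∈ W, HopfAlgebraStruct.antipode k g * w ∈ N k A m) →
        C ≤ M k A := by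
    intro d
    induction d using Nat.strong_induction_on with
    | _ d ih =>
      intro W hW hle hd m hm
      by_cases heq : W = C
      · intro v hv
        refine Submodule.subset_span ⟨⟨g, hgl⟩, m, HopfAlgebraStruct.antipode k g * v, hm v (heq ▸ hv), ?_⟩
        rw [← mul_assoc, hginv, one_mul]
      · obtain ⟨W', hW', hlt, hle', hst⟩ := exists_lt_step hC hW (lt_of_le_of_ne hle heq) c hnil
        haveI : Module.Finite k W' := Module.Finite.of_injective _ (Submodule.inclusion_injective hle')
        have h1 := Submodule.finrank_lt_finrank_of_lt hlt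
        have h2 := Submodule.finrank_mono hle'
        refine ih (Module.finrank k C - Module.finrank k W') (by omega) W' hW' hle' (by omega) (m + 1)
          fun w hw => mem_N_succ.2 fun φ => ?_
        let ψ : A →ₗ[k] k := φ ∘ₗ LinearMap.mulLeft k (HopfAlgebraStruct.antipode k g)
        have hψ : c ψ = φ 1 := by
          rw [← hg]
          simp only [ψ, LinearMap.comp_apply, LinearMap.mulLeft_apply]
          rw [mul_comm, hginv]
        have := hm _ (hst ψ w hw)
        rw [sh, LinearMap.sub_apply, LinearMap.smul_apply, LinearMap.id_apply, mul_sub, hψ,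
          Algebra.mul_smul_comm, ← fAct_mul_left _ _ hgl'] at this
        exact this
  exact hflag (Module.finrank k C) ⊥ isSubcomod_bot bot_le (by simp) 0 (by simp)

theorem eq_top_M [IsAlgClosed k] [Coalgebra.IsCocomm k A] : M k A = ⊤ := by
  classical
  suffices h : ∀ (d : ℕ) (C : Submodule k A), Module.Finite k C →
      HopfRep.IsSubcomod (k := k) (A := A) C → Module.finrank k C = d → C ≤ M k A by
    refine eq_top_iff.2 fun a _ => ?_
    obtain ⟨C, hC, ha, hCs⟩ := exists_finite_subcomod (k := k) (A := A) (V := A) a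
    exact h _ C hC hCs rfl ha
  intro d
  induction d using Nat.strong_induction_on with
  | _ d ih =>
    intro C hfin hC hd
    haveI := hfin
    rcases subsingleton_or_nontrivial C with hs | hn
    · intro v hv
      rw [show v = 0 from congrArg Subtype.val (Subsingleton.elim (⟨v, hv⟩ : C) 0)]
      exact zero_mem _
    let T : (A →ₗ[k] k) → Module.End k C := fun φ =>
      (fAct A φ).restrict fun v hv => fAct_mem_of_isSubcomod hC φ hv
    choose c hc using fun φ => Module.End.exists_eigenvalue (T φ)
    by_cases hall : ∀ φ, IsNilpotent (T φ - c φ • LinearMap.id)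
    · refine le_M_of_scalar hC c fun φ => ?_
      obtain ⟨n, hn⟩ := hall φ
      refine ⟨n, fun v hv => ?_⟩
      have hp : ∀ (m : ℕ) (w : C), (((T φ - c φ • LinearMap.id : Module.End k C) ^ m) w : A) = (sh φ (c φ) ^ m) (w : A) := by
        intro m
        induction m with
        | zero => exact fun w => rfl
        | succ m ihm =>
          intro w
          rw [pow_succ, pow_succ, Module.End.mul_apply, Module.End.mul_apply, ihm]
          rfl
      rw [← hp n ⟨v, hv⟩, hn]
      rfl
    · push Not at hall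
      obtain ⟨φ, hφ⟩ := hall
      let f : Module.End k C := T φ - c φ • LinearMap.id
      obtain ⟨n, hn, hn'⟩ := (f.eventually_isCompl_ker_pow_range_pow.and (Filter.eventually_ge_atTop 1)).exists
      have hcomm : ∀ ψ, Commute (f ^ n) (T ψ) := fun ψ => by
        refine Commute.pow_left ?_ n
        refine LinearMap.ext fun v => Subtype.ext ?_
        change fAct A φ (fAct A ψ (v : A)) - c φ • fAct A ψ (v : A) =
          fAct A ψ (fAct A φ (v : A) - c φ • (v : A))
        rw [map_sub, map_smul, fAct_comm φ ψ]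
      have hK : HopfRep.IsSubcomod (k := k) (A := A) ((LinearMap.ker (f ^ n)).map C.subtype) := by
        refine isSubcomod_iff.2 ?_
        rintro ψ _ ⟨v, hv, rfl⟩
        refine ⟨T ψ v, ?_, rfl⟩
        rw [SetLike.mem_coe, LinearMap.mem_ker] at hv ⊢
        rw [← Module.End.mul_apply, (hcomm ψ).eq, Module.End.mul_apply, hv, map_zero]
      have hR : HopfRep.IsSubcomod (k := k) (A := A) ((LinearMap.range (f ^ n)).map C.subtype) := by
        refine isSubcomod_iff.2 ?_
        rintro ψ _ ⟨v, ⟨w, rfl⟩, rfl⟩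
        exact ⟨T ψ ((f ^ n) w), ⟨T ψ w, LinearMap.congr_fun (hcomm ψ).eq w⟩, rfl⟩
      have hKne : LinearMap.ker (f ^ n) ≠ ⊤ := fun h => hφ ⟨n, LinearMap.ker_eq_top.1 h⟩
      have hRne : LinearMap.range (f ^ n) ≠ ⊤ := by
        intro h
        obtain ⟨v, hv, hv0⟩ := (hc φ).exists_hasEigenvector
        have hk : v ∈ LinearMap.ker (f ^ n) := by
          obtain ⟨m, rfl⟩ := Nat.exists_eq_succ_of_ne_zero (by omega : n ≠ 0)
          have hfv : f v = 0 := by
            simp [f, Module.End.mem_eigenspace_iff.1 hv]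
          rw [LinearMap.mem_ker, pow_succ, Module.End.mul_apply, hfv, map_zero]
        have := hn.disjoint.le_bot ⟨hk, h ▸ Submodule.mem_top⟩
        exact hv0 ((Submodule.mem_bot k).1 this)
      have e : ∀ P : Submodule k C, P ≠ ⊤ → Module.finrank k (P.map C.subtype) < d := fun P hP => by
        rw [Submodule.finrank_map_subtype_eq, ← hd]
        exact Submodule.finrank_lt hP
      have h1 := ih _ (e _ hKne) _ inferInstance hK rfl
      have h2 := ih _ (e _ hRne) _ inferInstance hR rfl
      intro v hv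
      obtain ⟨a, ha, b, hb, hab⟩ := Submodule.mem_sup.1
        (hn.sup_eq_top ▸ Submodule.mem_top : (⟨v, hv⟩ : C) ∈ LinearMap.ker (f ^ n) ⊔ LinearMap.range (f ^ n))
      rw [show v = (a : A) + (b : A) from (congrArg Subtype.val hab).symm]
      exact add_mem (h1 ⟨a, ha, rfl⟩) (h2 ⟨b, hb, rfl⟩)

end Groth.L25.LargestMult
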