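import Groth.Agent.L08.Flag
import Groth.Agent.L08.Dual
import Groth.Agent.L08.Subcoalg
import Groth.Prelude.Def_SGA3

/-!
# The unipotent component of a cocommutative Hopf algebra
-/

set_option autoImplicit false
universe u

open TensorProduct

noncomputable section

namespace Groth.L25.LargestMult

open Groth.L08

variable {k : Type u} [Field k] {A : Type u} [CommRing A] [HopfAlgebra k A]

variable (k A) in
/-- the filtration of the unipotent component -/
def N : ℕ → Submodule k A
  | 0 => ⊥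
  | n + 1 => ⨅ φ : A →ₗ[k] k, (N n).comap (fAct A φ - φ 1 • LinearMap.id)

theorem mem_N_succ {n : ℕ} {a : A} :
    a ∈ N k A (n + 1) ↔ ∀ φ : A →ₗ[k] k, fAct A φ a - φ 1 • a ∈ N k A n := by
  simp [N]

theorem mem_N_succ_iff {n : ℕ} {a : A} :
    a ∈ N k A (n + 1) ↔ Coalgebra.comul (R := k) a - a ⊗ₜ[k] (1 : A) ∈
      LinearMap.range ((N k A n).subtype.rTensor A) := by
  rw [mem_range_rTensor_subtype_iff, mem_N_succ]
  refine forall_congr' fun φ => ?_
  rw [map_sub, map_sub, LinearMap.lTensor_tmul, TensorProduct.rid_tmul]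
  rfl

theorem isSubcomod_N : ∀ n, HopfRep.IsSubcomod (k := k) (A := A) (N k A n)
  | 0 => isSubcomod_bot
  | n + 1 => isSubcomod_iff.2 fun φ a ha => mem_N_succ.2 fun ψ => by
      have h := isSubcomod_N n
      have h1 := fAct_mem_of_isSubcomod h ψ (mem_N_succ.1 ha φ)
      have h2 := mem_N_succ.1 ha ψ
      have e : fAct A ψ (fAct A φ a) - ψ 1 • fAct A φ a =
          fAct A ψ (fAct A φ a - φ 1 • a) + φ 1 • (fAct A ψ a - ψ 1 • a) -
            ψ 1 • (fAct A φ a - φ 1 • a) := by
        simp only [map_sub, map_smul, smul_sub]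
        module
      rw [e]
      exact sub_mem (add_mem h1 ((N k A n).smul_mem _ h2)) ((N k A n).smul_mem _ (mem_N_succ.1 ha φ))

theorem N_le_succ (n : ℕ) : N k A n ≤ N k A (n + 1) := fun a ha =>
  mem_N_succ.2 fun φ => sub_mem (fAct_mem_of_isSubcomod (isSubcomod_N n) φ ha) ((N k A n).smul_mem _ ha)

theorem N_mono : Monotone (N k A) := monotone_nat_of_le_succ N_le_succ

theorem one_mem_N : (1 : A) ∈ N k A 1 :=
  mem_N_succ_iff.2 (by simp [Algebra.TensorProduct.one_def])

variable (k A) in
/-- the unipotent component -/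
def comp : Submodule k A := ⨆ n, N k A n

theorem mem_comp {a : A} : a ∈ comp k A ↔ ∃ n, a ∈ N k A n :=
  Submodule.mem_iSup_of_directed _ N_mono.directed_le

theorem mul_mem_range {W W' W'' : Submodule k A} (h : ∀ a ∈ W, ∀ b ∈ W', a * b ∈ W'')
    {x y : A ⊗[k] A} (hx : x ∈ LinearMap.range (W.subtype.rTensor A))
    (hy : y ∈ LinearMap.range (W'.subtype.rTensor A)) :
    x * y ∈ LinearMap.range (W''.subtype.rTensor A) := by
  obtain ⟨x, rfl⟩ := hx
  obtain ⟨y, rfl⟩ := hy
  induction x with
  | zero => simp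
  | add p q hp hq => rw [map_add, add_mul]; exact add_mem hp hq
  | tmul w a =>
    induction y with
    | zero => simp
    | add p q hp hq => rw [map_add, mul_add]; exact add_mem hp hq
    | tmul w' a' =>
      exact ⟨(⟨(w : A) * w', h _ w.2 _ w'.2⟩ : W'') ⊗ₜ[k] (a * a'), by simp⟩

theorem mul_mem_N : ∀ (s m n : ℕ), m + n = s → ∀ a ∈ N k A m, ∀ b ∈ N k A n, a * b ∈ N k A (m + n) := by
  intro s
  induction s with
  | zero =>
    intro m n h a ha b hb
    obtain ⟨rfl, rfl⟩ : m = 0 ∧ n = 0 := by omega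
    simp only [N, Submodule.mem_bot] at ha
    simp [ha]
  | succ s ih =>
    intro m n h a ha b hb
    match m, n with
    | 0, n => simp only [N, Submodule.mem_bot] at ha; simp [ha]
    | m + 1, 0 => simp only [N, Submodule.mem_bot] at hb; simp [hb]
    | m + 1, n + 1 =>
      rw [show m + 1 + (n + 1) = (m + n + 1) + 1 by omega, mem_N_succ_iff]
      have e : Coalgebra.comul (R := k) (a * b) - (a * b) ⊗ₜ[k] (1 : A) =
          (Coalgebra.comul (R := k) a - a ⊗ₜ[k] 1) * Coalgebra.comul (R := k) b +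
            a ⊗ₜ[k] 1 * (Coalgebra.comul (R := k) b - b ⊗ₜ[k] 1) := by
        rw [Bialgebra.comul_mul, sub_mul, mul_sub, Algebra.TensorProduct.tmul_mul_tmul, one_mul]
        abel
      rw [e]
      refine add_mem ?_ ?_
      · refine mul_mem_range (fun x hx y hy => ?_) (mem_N_succ_iff.1 ha) (isSubcomod_N (n + 1) b hb)
        have := ih m (n + 1) (by omega) x hx y hy
        exact (show m + (n + 1) = m + n + 1 by omega) ▸ this
      · refine mul_mem_range (fun x hx y hy => ?_)
          (show a ⊗ₜ[k] (1 : A) ∈ _ from ⟨(⟨a, ha⟩ : N k A (m + 1)) ⊗ₜ[k] (1 : A), rfl⟩) (mem_N_succ_iff.1 hb)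
        have := ih (m + 1) n (by omega) x hx y hy
        exact (show m + 1 + n = m + n + 1 by omega) ▸ this

variable (k A) in
/-- the unipotent component as a subalgebra -/
def B : Subalgebra k A :=
  (comp k A).toSubalgebra (mem_comp.2 ⟨1, one_mem_N⟩) fun a b ha hb => by
    obtain ⟨m, hm⟩ := mem_comp.1 ha
    obtain ⟨n, hn⟩ := mem_comp.1 hb
    exact mem_comp.2 ⟨m + n, mul_mem_N _ m n rfl a hm b hn⟩

theorem mem_B {a : A} : a ∈ B k A ↔ ∃ n, a ∈ N k A n := mem_comp

variable [Coalgebra.IsCocomm k A]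

theorem lTr_eq_fAct (ψ : A →ₗ[k] k) (a : A) : lTr ψ a = fAct A ψ a := by
  change TensorProduct.lid k A (ψ.rTensor A (Coalgebra.comul (R := k) a)) =
    TensorProduct.rid k A (ψ.lTensor A (Coalgebra.comul (R := k) a))
  conv_lhs => rw [← Coalgebra.comm_comul k a]
  induction Coalgebra.comul (R := k) a with
  | zero => simp
  | add p q hp hq => simp only [map_add, hp, hq]
  | tmul p q => simp

theorem antipode_mem_N : ∀ (n : ℕ), ∀ a ∈ N k A n, HopfAlgebraStruct.antipode k a ∈ N k A n
  | 0 => fun a ha => by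
      simp only [N, Submodule.mem_bot] at ha ⊢
      simp [ha]
  | n + 1 => fun a ha => mem_N_succ.2 fun φ => by
      let S : A →ₗ[k] A := HopfAlgebraStruct.antipode k
      have h : fAct A φ (S a) = S (fAct A (φ ∘ₗ S) a) := by
        change TensorProduct.rid k A (φ.lTensor A (Coalgebra.comul (R := k) (S a))) =
          S (TensorProduct.rid k A ((φ ∘ₗ S).lTensor A (Coalgebra.comul (R := k) a)))
        rw [Groth.L08.comul_antipode, Coalgebra.comm_comul]
        induction Coalgebra.comul (R := k) a with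
        | zero => simp
        | add p q hp hq => simp only [map_add, hp, hq]
        | tmul p q => simp [S]
      have h1 : (φ ∘ₗ S) 1 = φ 1 := by simp [S, HopfAlgebra.antipode_one]
      have := antipode_mem_N n _ (mem_N_succ.1 ha (φ ∘ₗ S))
      rw [h1, map_sub, map_smul, ← h] at this
      exact this

theorem isHopfSubalgebra_B : SGA3.IsHopfSubalgebra k A (B k A) := by
  refine ⟨fun a ha => ?_, fun a ha => ?_⟩
  · have hsub : HopfRep.IsSubcomod (k := k) (A := A) (comp k A) := isSubcomod_iSup isSubcomod_N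
    have h : IsSubcoalg (comp k A) := isSubcoalg_iff.2
      ⟨hsub, fun ψ b hb => (lTr_eq_fAct ψ b).symm ▸ fAct_mem_of_isSubcomod hsub ψ hb⟩
    exact h a ha
  · obtain ⟨n, hn⟩ := mem_B.1 ha
    exact mem_B.2 ⟨n, antipode_mem_N n a hn⟩

end Groth.L25.LargestMult
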